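import Mathlib

/-!
# Affine combinations of algebra maps congruent modulo a square-zero ideal

For an `A`-algebra `P`, an `A`-algebra `R` and an ideal `K` of `R` with `K ^ 2 = ⊥`, algebra maps
`P →ₐ[A] R` that are pairwise congruent modulo `K` can be combined affinely:
`a + b - c` and `a + r (b - a)` are again algebra maps.
-/

set_option autoImplicit false
universe u

namespace Groth.Agent.H1.SmGlue

variable {A : Type u} [CommRing A] {P : Type u} [CommRing P] [Algebra A P]
variable {R : Type u} [CommRing R] [Algebra A R]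

/-- Congruence of two maps modulo an ideal. -/
def Cong (K : Ideal R) (s t : P →ₐ[A] R) : Prop := ∀ x, s x - t x ∈ K

theorem Cong.refl (K : Ideal R) (s : P →ₐ[A] R) : Cong K s s := fun x => by simp

theorem Cong.symm {K : Ideal R} {s t : P →ₐ[A] R} (h : Cong K s t) : Cong K t s := fun x => by
  have := K.neg_mem (h x); simpa using this

theorem Cong.trans {K : Ideal R} {s t w : P →ₐ[A] R} (h : Cong K s t) (h' : Cong K t w) :
    Cong K s w := fun x => by
  have := K.add_mem (h x) (h' x); simpa using this

theorem Cong.comp {K : Ideal R} {s t : P →ₐ[A] R} (h : Cong K s t)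
    {R' : Type u} [CommRing R'] [Algebra A R'] (f : R →ₐ[A] R') {K' : Ideal R'}
    (hK : K.map f ≤ K') : Cong K' (f.comp s) (f.comp t) := fun x => by
  have : f (s x - t x) ∈ K' := hK (Ideal.mem_map_of_mem _ (h x))
  simpa using this

theorem Cong.precomp {K : Ideal R} {s t : P →ₐ[A] R} (h : Cong K s t)
    {Q : Type u} [CommRing Q] [Algebra A Q] (g : Q →ₐ[A] P) : Cong K (s.comp g) (t.comp g) :=
  fun x => h (g x)

theorem mul_eq_zero_of_mem {K : Ideal R} (hK : K ^ 2 = ⊥) {x y : R} (hx : x ∈ K) (hy : y ∈ K) :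
    x * y = 0 := by
  have : x * y ∈ K ^ 2 := by rw [pow_two]; exact Ideal.mul_mem_mul hx hy
  rwa [hK, Ideal.mem_bot] at this

theorem cong_iff_mk_comp_eq {K : Ideal R} {s t : P →ₐ[A] R} :
    Cong K s t ↔ (Ideal.Quotient.mkₐ A K).comp s = (Ideal.Quotient.mkₐ A K).comp t := by
  constructor
  · intro h
    ext x
    simpa [Ideal.Quotient.eq] using h x
  · intro h x
    have := congr($h x)
    simpa [Ideal.Quotient.eq] using this

/-- `x ↦ a x + b x - c x`, for `a`, `b` congruent to `c` modulo the square-zero ideal `K`. -/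
def aff3 (K : Ideal R) (hK : K ^ 2 = ⊥) (c a b : P →ₐ[A] R) (ha : Cong K a c) (hb : Cong K b c) :
    P →ₐ[A] R where
  toFun x := a x + b x - c x
  map_one' := by simp
  map_zero' := by simp
  map_add' x y := by simp only [map_add]; ring
  map_mul' x y := by
    have h1 := mul_eq_zero_of_mem hK (ha x) (hb y)
    have h2 := mul_eq_zero_of_mem hK (hb x) (ha y)
    have h3 := mul_eq_zero_of_mem hK (ha x) (ha y)
    have h4 := mul_eq_zero_of_mem hK (hb x) (hb y)
    simp only [map_mul]
    linear_combination -h1 - h2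
  commutes' r := by simp

@[simp]
theorem aff3_apply (K : Ideal R) (hK : K ^ 2 = ⊥) (c a b : P →ₐ[A] R) (ha : Cong K a c)
    (hb : Cong K b c) (x : P) : aff3 K hK c a b ha hb x = a x + b x - c x := rfl

theorem aff3_cong (K : Ideal R) (hK : K ^ 2 = ⊥) (c a b : P →ₐ[A] R) (ha : Cong K a c)
    (hb : Cong K b c) : Cong K (aff3 K hK c a b ha hb) c := fun x => by
  have := K.add_mem (ha x) (hb x)
  have e : aff3 K hK c a b ha hb x - c x = (a x - c x) + (b x - c x) := by simp; ring
  rw [e]; exact this

/-- `x ↦ a x + r * (b x - a x)`, for `b` congruent to `a` modulo the square-zero ideal `K`. -/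
def affr (K : Ideal R) (hK : K ^ 2 = ⊥) (r : R) (a b : P →ₐ[A] R) (hb : Cong K b a) :
    P →ₐ[A] R where
  toFun x := a x + r * (b x - a x)
  map_one' := by simp
  map_zero' := by simp
  map_add' x y := by simp only [map_add]; ring
  map_mul' x y := by
    have h3 := mul_eq_zero_of_mem hK (hb x) (hb y)
    simp only [map_mul]
    linear_combination (r - r ^ 2) * h3
  commutes' r' := by simp

@[simp]
theorem affr_apply (K : Ideal R) (hK : K ^ 2 = ⊥) (r : R) (a b : P →ₐ[A] R) (hb : Cong K b a)
    (x : P) : affr K hK r a b hb x = a x + r * (b x - a x) := rfl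

theorem affr_cong (K : Ideal R) (hK : K ^ 2 = ⊥) (r : R) (a b : P →ₐ[A] R) (hb : Cong K b a) :
    Cong K (affr K hK r a b hb) a := fun x => by
  have e : affr K hK r a b hb x - a x = r * (b x - a x) := by simp
  rw [e]; exact K.mul_mem_left _ (hb x)

end Groth.Agent.H1.SmGlue
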