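import Groth.Agent.H1.SmGlue.Der

/-!
# Base change of derivations into `I · R`

For a tower `A → P → R` with `Ω[P⁄A]` finite projective, an ideal `I` of `A` and a flat `A`-algebra
`B`, the canonical map `Der_A(P, I R) ⊗_A B → Der_A(P, I (R ⊗_A B))` is bijective.
-/

set_option autoImplicit false
universe u

open TensorProduct KaehlerDifferential

namespace Groth.Agent.H1.SmGlue

section DualBasis

variable (A P : Type u) [CommRing A] [CommRing P] [Algebra A P]
  [Module.Finite P Ω[P⁄A]] [Module.Projective P Ω[P⁄A]]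

theorem exists_dual_basis : ∃ (n : ℕ) (c : Fin n → Derivation A P P) (ω : Fin n → Ω[P⁄A]),
    ∀ (N : Type u) [AddCommGroup N] [Module P N] [Module A N] [IsScalarTower A P N]
      (D : Derivation A P N) (x : P), D x = ∑ j, c j x • D.liftKaehlerDifferential (ω j) := by
  classical
  obtain ⟨n, f, hf⟩ := Module.Finite.exists_fin' P Ω[P⁄A]
  obtain ⟨g, hg⟩ := Module.projective_lifting_property f LinearMap.id hf
  refine ⟨n, fun j => ((LinearMap.proj j).comp g).compDer (KaehlerDifferential.D A P),
    fun j => f (fun k => if j = k then 1 else 0), ?_⟩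
  intro N _ _ _ _ D x
  have h1 : KaehlerDifferential.D A P x =
      ∑ j, (g (KaehlerDifferential.D A P x) j) • f (fun k => if j = k then 1 else 0) := by
    have := congr($hg (KaehlerDifferential.D A P x))
    simp only [LinearMap.comp_apply, LinearMap.id_apply] at this
    conv_lhs => rw [← this]
    exact LinearMap.pi_apply_eq_sum_univ f _
  conv_lhs => rw [← D.liftKaehlerDifferential_comp_D x, h1]
  simp only [map_sum, map_smul]
  rfl

end DualBasis

variable {A : Type u} [CommRing A] (I : Ideal A)
variable {P : Type u} [CommRing P] [Algebra A P]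
variable (R : Type u) [CommRing R] [Algebra A R] [Algebra P R] [IsScalarTower A P R]
variable (B : Type u) [CommRing B] [Algebra A B]

/-- The ideal `I · R`. -/
abbrev JJ (R : Type u) [CommRing R] [Algebra A R] : Ideal R := I.map (algebraMap A R)

theorem JJ_sq (hI : I ^ 2 = ⊥) (R : Type u) [CommRing R] [Algebra A R] : JJ I R ^ 2 = ⊥ := by
  rw [JJ, ← Ideal.map_pow, hI, Ideal.map_bot]

theorem JJ_map_le {R R' : Type u} [CommRing R] [Algebra A R] [CommRing R'] [Algebra A R']
    (f : R →ₐ[A] R') : (JJ I R).map f ≤ JJ I R' := by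
  rw [Ideal.map_le_iff_le_comap, JJ, Ideal.map_le_iff_le_comap]
  intro i hi
  simp only [Ideal.mem_comap, AlgHom.commutes]
  exact Ideal.mem_map_of_mem _ hi

theorem JJ_map_includeLeft :
    (JJ I R).map (Algebra.TensorProduct.includeLeft : R →ₐ[P] R ⊗[A] B) ≤ JJ I (R ⊗[A] B) :=
  JJ_map_le I (Algebra.TensorProduct.includeLeft : R →ₐ[A] R ⊗[A] B)

/-- The canonical map `Der_A(P, I R) ⊗_A B → Der_A(P, I (R ⊗_A B))`. -/
noncomputable def kappa :
    Derivation A P (JJ I R) ⊗[A] B →ₗ[A] Derivation A P (JJ I (R ⊗[A] B)) :=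
  TensorProduct.lift (LinearMap.mk₂ A
    (fun D b => ((1 : R) ⊗ₜ[A] b : R ⊗[A] B) •
      mapD (JJ I R) (JJ I (R ⊗[A] B)) Algebra.TensorProduct.includeLeft (JJ_map_includeLeft I R B) D)
    (fun D D' b => by rw [map_add, smul_add])
    (fun a D b => by rw [map_smul, smul_comm])
    (fun D b b' => by rw [TensorProduct.tmul_add, add_smul])
    (fun a D b => by
      rw [TensorProduct.tmul_smul, smul_assoc]))

theorem kappa_tmul_apply (D : Derivation A P (JJ I R)) (b : B) (x : P) :
    ((kappa I R B (D ⊗ₜ[A] b) x : JJ I (R ⊗[A] B)) : R ⊗[A] B) = (D x : R) ⊗ₜ[A] b := by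
  simp [kappa]

end Groth.Agent.H1.SmGlue

namespace Groth.Agent.H1.SmGlue

variable {A : Type u} [CommRing A] (I : Ideal A)
variable {P : Type u} [CommRing P] [Algebra A P]
variable (R : Type u) [CommRing R] [Algebra A R] [Algebra P R] [IsScalarTower A P R]
variable (B : Type u) [CommRing B] [Algebra A B]

/-- The map `I R ⊗ B → R ⊗ B`. -/
noncomputable def beta : ↥(JJ I R) ⊗[A] B →ₗ[A] R ⊗[A] B :=
  LinearMap.rTensor B ((JJ I R).subtype.restrictScalars A)

@[simp]
theorem beta_tmul (j : JJ I R) (b : B) : beta I R B (j ⊗ₜ b) = (j : R) ⊗ₜ b := rfl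

theorem beta_injective [Module.Flat A B] : Function.Injective (beta I R B) :=
  Module.Flat.rTensor_preserves_injective_linearMap _ Subtype.val_injective

theorem JJ_tensor_eq :
    JJ I (R ⊗[A] B) = (JJ I R).map (Algebra.TensorProduct.includeLeft : R →ₐ[A] R ⊗[A] B) := by
  apply le_antisymm
  · rw [JJ, Ideal.map_le_iff_le_comap]
    intro i hi
    rw [Ideal.mem_comap]
    have : algebraMap A (R ⊗[A] B) i =
        (Algebra.TensorProduct.includeLeft : R →ₐ[A] R ⊗[A] B) (algebraMap A R i) := by
      simp [Algebra.TensorProduct.algebraMap_apply]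
    rw [this]
    exact Ideal.mem_map_of_mem _ (Ideal.mem_map_of_mem _ hi)
  · exact JJ_map_le I _

theorem exists_beta_eq (y : R ⊗[A] B) (hy : y ∈ JJ I (R ⊗[A] B)) : ∃ ν, beta I R B ν = y := by
  rw [JJ_tensor_eq] at hy
  have h := Ideal.map_includeLeft_eq (R := A) (B := B) (JJ I R)
  have hy' : y ∈ ((JJ I R).map
      (Algebra.TensorProduct.includeLeft : R →ₐ[A] R ⊗[A] B)).restrictScalars A := hy
  rw [h] at hy'
  obtain ⟨ν, hν⟩ := hy'
  exact ⟨ν, hν⟩

theorem beta_mem (ν : ↥(JJ I R) ⊗[A] B) : beta I R B ν ∈ JJ I (R ⊗[A] B) := by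
  induction ν using TensorProduct.induction_on with
  | zero => simp
  | tmul j b =>
    rw [beta_tmul]
    have : (j : R) ⊗ₜ[A] b = ((1 : R) ⊗ₜ[A] b) *
        (Algebra.TensorProduct.includeLeft : R →ₐ[A] R ⊗[A] B) (j : R) := by simp
    rw [this]
    exact Ideal.mul_mem_left _ _ (JJ_map_le I _ (Ideal.mem_map_of_mem _ j.2))
  | add x y hx hy => rw [map_add]; exact Ideal.add_mem _ hx hy

end Groth.Agent.H1.SmGlue

namespace Groth.Agent.H1.SmGlue

section smulDer

variable {A : Type u} [CommRing A] {P : Type u} [CommRing P] [Algebra A P]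
variable {N : Type u} [AddCommGroup N] [Module P N] [Module A N] [IsScalarTower A P N]

/-- `n ↦ (x ↦ c x • n)`. -/
noncomputable def smulDer (c : Derivation A P P) : N →ₗ[A] Derivation A P N where
  toFun n := (LinearMap.toSpanSingleton P N n).compDer c
  map_add' n n' := by
    ext x
    show c x • (n + n') = c x • n + c x • n'
    rw [smul_add]
  map_smul' a n := by
    ext x
    show c x • (a • n) = a • (c x • n)
    rw [smul_comm]

@[simp]
theorem smulDer_apply (c : Derivation A P P) (n : N) (x : P) : smulDer c n x = c x • n := rfl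

omit [IsScalarTower A P N] in
theorem der_sum_apply {ι : Type*} (s : Finset ι) (D : ι → Derivation A P N) (x : P) :
    (∑ j ∈ s, D j) x = ∑ j ∈ s, D j x := by
  have := map_sum (Derivation.coeFnAddMonoidHom (R := A) (A := P) (M := N)) D s
  have e := congr_fun this x
  rw [Finset.sum_apply] at e
  exact e

/-- `D ↦ D.liftKaehlerDifferential ω`. -/
noncomputable def evalω (ω : Ω[P⁄A]) : Derivation A P N →ₗ[A] N where
  toFun D := D.liftKaehlerDifferential ω
  map_add' D D' := by
    have := map_add (KaehlerDifferential.linearMapEquivDerivation A P (M := N)).symm D D'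
    exact congr($this ω)
  map_smul' a D := by
    have h : a • D = (algebraMap A P a) • D := by ext x; simp
    have := map_smul (KaehlerDifferential.linearMapEquivDerivation A P (M := N)).symm
      (algebraMap A P a) D
    have e := congr($this ω)
    simp only [RingHom.id_apply]
    rw [h]
    refine e.trans ?_
    simp

@[simp]
theorem evalω_apply (ω : Ω[P⁄A]) (D : Derivation A P N) :
    evalω ω D = D.liftKaehlerDifferential ω := rfl

end smulDer

variable {A : Type u} [CommRing A] (I : Ideal A)
variable {P : Type u} [CommRing P] [Algebra A P]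
variable (R : Type u) [CommRing R] [Algebra A R] [Algebra P R] [IsScalarTower A P R]
variable (B : Type u) [CommRing B] [Algebra A B]

theorem kappa_map_smulDer (c : Derivation A P P) (ν : ↥(JJ I R) ⊗[A] B) (x : P) :
    ((kappa I R B (TensorProduct.map (smulDer c) LinearMap.id ν) x : JJ I (R ⊗[A] B)) : R ⊗[A] B) =
      algebraMap P (R ⊗[A] B) (c x) * beta I R B ν := by
  induction ν using TensorProduct.induction_on with
  | zero => simp
  | tmul j b =>
    rw [TensorProduct.map_tmul, LinearMap.id_apply, kappa_tmul_apply, beta_tmul, smulDer_apply]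
    rw [Algebra.TensorProduct.algebraMap_apply, Algebra.TensorProduct.tmul_mul_tmul, one_mul]
    congr 1
    simp [Algebra.smul_def]
  | add y y' hy hy' =>
    rw [map_add, map_add, Derivation.add_apply, Submodule.coe_add, hy, hy', map_add, mul_add]

theorem beta_map_evalω (ω : Ω[P⁄A]) (Y : Derivation A P (JJ I R) ⊗[A] B) :
    beta I R B (TensorProduct.map (evalω ω) LinearMap.id Y) =
      ((kappa I R B Y).liftKaehlerDifferential ω : JJ I (R ⊗[A] B)) := by
  induction Y using TensorProduct.induction_on with
  | zero =>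
    have := (evalω (N := JJ I (R ⊗[A] B)) (A := A) ω).map_zero
    rw [evalω_apply] at this
    rw [map_zero, map_zero, map_zero, this]
    rfl
  | tmul D b =>
    rw [TensorProduct.map_tmul, LinearMap.id_apply, beta_tmul, evalω_apply]
    -- the `P`-linear map `ω ↦ (D.lift ω) ⊗ b`
    let L : Ω[P⁄A] →ₗ[P] JJ I (R ⊗[A] B) :=
      { toFun := fun ω => ⟨((D.liftKaehlerDifferential ω : JJ I R) : R) ⊗ₜ[A] b, by
          have := beta_mem I R B ((D.liftKaehlerDifferential ω) ⊗ₜ[A] b)
          rwa [beta_tmul] at this⟩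
        map_add' := fun ω ω' => by ext; simp [TensorProduct.add_tmul]
        map_smul' := fun p ω => by
          ext
          simp [Algebra.smul_def, Algebra.TensorProduct.algebraMap_apply] }
    have hL : L = (kappa I R B (D ⊗ₜ[A] b)).liftKaehlerDifferential := by
      apply Derivation.liftKaehlerDifferential_unique
      ext x
      show ((L (KaehlerDifferential.D A P x) : JJ I (R ⊗[A] B)) : R ⊗[A] B) =
        (((kappa I R B (D ⊗ₜ[A] b)).liftKaehlerDifferential (KaehlerDifferential.D A P x) :
          JJ I (R ⊗[A] B)) : R ⊗[A] B)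
      rw [Derivation.liftKaehlerDifferential_comp_D, kappa_tmul_apply]
      simp [L]
    rw [← hL]
    rfl
  | add Y Y' hY hY' =>
    rw [map_add, map_add, hY, hY', map_add]
    have := map_add (KaehlerDifferential.linearMapEquivDerivation A P
      (M := JJ I (R ⊗[A] B))).symm (kappa I R B Y) (kappa I R B Y')
    have e := congr($this ω)
    simp only [KaehlerDifferential.linearMapEquivDerivation_symm_apply, LinearMap.add_apply] at e
    rw [e, Submodule.coe_add]

variable [Module.Finite P Ω[P⁄A]] [Module.Projective P Ω[P⁄A]]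

theorem kappa_injective [Module.Flat A B] : Function.Injective (kappa (P := P) I R B) := by
  rw [injective_iff_map_eq_zero]
  intro Y hY
  obtain ⟨n, c, ω, hdb⟩ := exists_dual_basis A P
  have h1 : ∀ j, TensorProduct.map (evalω (N := JJ I R) (ω j)) (LinearMap.id (M := B)) Y = 0 := by
    intro j
    apply beta_injective I R B
    rw [beta_map_evalω, hY, map_zero]
    have := (evalω (N := JJ I (R ⊗[A] B)) (A := A) (ω j)).map_zero
    rw [evalω_apply] at this
    rw [this]
    rfl
  have h2 : ∀ Y : Derivation A P (JJ I R) ⊗[A] B,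
      Y = ∑ j, TensorProduct.map (smulDer (c j)) LinearMap.id
        (TensorProduct.map (evalω (N := JJ I R) (ω j)) (LinearMap.id (M := B)) Y) := by
    intro Y
    induction Y using TensorProduct.induction_on with
    | zero => simp
    | tmul D b =>
      simp only [TensorProduct.map_tmul, LinearMap.id_apply]
      rw [← TensorProduct.sum_tmul]
      congr 1
      ext x
      rw [der_sum_apply, Submodule.coe_sum]
      conv_lhs => rw [hdb (JJ I R) D x, Submodule.coe_sum]
      rfl
    | add Y Y' hY hY' =>
      simp only [map_add, Finset.sum_add_distrib]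
      rw [← hY, ← hY']
  rw [h2 Y]
  simp [h1]

theorem kappa_surjective : Function.Surjective (kappa (P := P) I R B) := by
  intro D'
  obtain ⟨n, c, ω, hdb⟩ := exists_dual_basis A P
  have h1 : ∀ j, ∃ ν, beta I R B ν =
      ((D'.liftKaehlerDifferential (ω j) : JJ I (R ⊗[A] B)) : R ⊗[A] B) := fun j =>
    exists_beta_eq I R B _ (D'.liftKaehlerDifferential (ω j)).2
  choose ν hν using h1
  refine ⟨∑ j, TensorProduct.map (smulDer (c j)) LinearMap.id (ν j), ?_⟩
  ext x
  rw [map_sum, der_sum_apply, Submodule.coe_sum]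
  simp_rw [kappa_map_smulDer, hν]
  rw [hdb (JJ I (R ⊗[A] B)) D' x, Submodule.coe_sum]
  refine Finset.sum_congr rfl fun j _ => ?_
  simp [Algebra.smul_def]

end Groth.Agent.H1.SmGlue
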