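import Groth.Agent.H1.SmGlue.LocalLift
import Groth.Agent.H53.Points

/-!
# From a lift at the level of algebraic spaces to a lift of ring maps on charts
-/

set_option autoImplicit false
universe u
open CategoryTheory CategoryTheory.Limits AlgebraicGeometry Opposite AlgSp

namespace Groth.Agent.H1.SmGlue

open Groth.Agent.H53

variable {S : Scheme.{u}}

set_option maxHeartbeats 1600000 in
/-- Let `(a, b, h)` be a chart diagram of `f : X ⟶ Y`, `U₁ ⊆ U`, `V₁ ⊆ V` affine opens with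
`h(U₁) ⊆ V₁`, `π : B' → B` a surjection with square-zero kernel with `B'` local, and a commutative
square of ring maps `(ρ, g)` from `Γ(V₁) → Γ(U₁)` to `π`.  If the induced square of algebraic
spaces has a diagonal then so does the square of rings. -/
theorem exists_ringHom_lift_of_space_lift {X Y : Sp S} (f : X ⟶ Y) {U V : Over S}
    (a : (yon S).obj U ⟶ X) (b : (yon S).obj V ⟶ Y) (h : U ⟶ V) (ha : RepWith @Etale a)
    (hb : RepWith @Etale b) (hcomm : a ≫ f = (yon S).map h ≫ b)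
    {V₁ : V.left.Opens} (hV₁ : IsAffineOpen V₁) {U₁ : U.left.Opens} (hU₁ : IsAffineOpen U₁)
    (e : U₁ ≤ h.left ⁻¹ᵁ V₁)
    (B' B : Type u) [CommRing B'] [CommRing B] [IsLocalRing B'] [IsLocalRing B]
    (π : B' →+* B) (hπ : Function.Surjective π) (hker : RingHom.ker π ^ 2 = ⊥)
    (ρ : Γ(V.left, V₁) →+* B') (g : Γ(U.left, U₁) →+* B)
    (hgρ : g.comp (h.left.appLE V₁ U₁ e).hom = π.comp ρ)
    (Hlift : ∀ (s : Spec (CommRingCat.of B') ⟶ S)
      (α : (yon S).obj (Over.mk (Spec.map (CommRingCat.ofHom π) ≫ s)) ⟶ X)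
      (β : (yon S).obj (Over.mk s) ⟶ Y),
      Points.ofPt α (IsLocalRing.closedPoint B) =
        Points.ofPt a ((Spec.map (CommRingCat.ofHom g) ≫ hU₁.fromSpec)
          (IsLocalRing.closedPoint B)) →
      α ≫ f = (yon S).map (Over.homMk (Spec.map (CommRingCat.ofHom π)) :
        Over.mk (Spec.map (CommRingCat.ofHom π) ≫ s) ⟶ Over.mk s) ≫ β →
      ∃ γ : (yon S).obj (Over.mk s) ⟶ X,
        (yon S).map (Over.homMk (Spec.map (CommRingCat.ofHom π)) :
          Over.mk (Spec.map (CommRingCat.ofHom π) ≫ s) ⟶ Over.mk s) ≫ γ = α ∧ γ ≫ f = β) :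
    ∃ g' : Γ(U.left, U₁) →+* B', π.comp g' = g ∧ g'.comp (h.left.appLE V₁ U₁ e).hom = ρ := by
  -- the geometric square
  set s : Spec (CommRingCat.of B') ⟶ S :=
    Spec.map (CommRingCat.ofHom ρ) ≫ hV₁.fromSpec ≫ V.hom with hs
  have hsq : (Spec.map (CommRingCat.ofHom g) ≫ hU₁.fromSpec) ≫ h.left =
      Spec.map (CommRingCat.ofHom π) ≫ Spec.map (CommRingCat.ofHom ρ) ≫ hV₁.fromSpec := by
    rw [Category.assoc, ← IsAffineOpen.SpecMap_appLE_fromSpec h.left hV₁ hU₁ e, ← Category.assoc,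
      ← Category.assoc, ← Spec.map_comp, ← Spec.map_comp]
    congr 2
    have : CommRingCat.ofHom (g.comp (h.left.appLE V₁ U₁ e).hom) =
        CommRingCat.ofHom (π.comp ρ) := by rw [hgρ]
    exact this
  let βV : Over.mk s ⟶ V := Over.homMk (Spec.map (CommRingCat.ofHom ρ) ≫ hV₁.fromSpec)
    (by rw [Category.assoc]; rfl)
  have hαw : (Spec.map (CommRingCat.ofHom g) ≫ hU₁.fromSpec) ≫ U.hom =
      (Over.mk (Spec.map (CommRingCat.ofHom π) ≫ s)).hom := by
    rw [← Over.w h, ← Category.assoc, hsq]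
    simp only [Category.assoc]
    rfl
  let αU : Over.mk (Spec.map (CommRingCat.ofHom π) ≫ s) ⟶ U :=
    Over.homMk (Spec.map (CommRingCat.ofHom g) ≫ hU₁.fromSpec) hαw
  have hαβ : αU ≫ h = (Over.homMk (Spec.map (CommRingCat.ofHom π)) :
      Over.mk (Spec.map (CommRingCat.ofHom π) ≫ s) ⟶ Over.mk s) ≫ βV := by
    ext
    exact hsq
  -- the space-level data
  have hpt : Points.ofPt ((yon S).map αU ≫ a) (IsLocalRing.closedPoint B) =
      Points.ofPt a ((Spec.map (CommRingCat.ofHom g) ≫ hU₁.fromSpec)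
        (IsLocalRing.closedPoint B)) := by
    rw [ofPt_yon_map_comp]
    rfl
  have hαβ' : (yon S).map αU ≫ (yon S).map h =
      (yon S).map (Over.homMk (Spec.map (CommRingCat.ofHom π)) :
        Over.mk (Spec.map (CommRingCat.ofHom π) ≫ s) ⟶ Over.mk s) ≫ (yon S).map βV := by
    rw [← Functor.map_comp, ← Functor.map_comp, hαβ]
  obtain ⟨γ, hγ1, hγ2⟩ := Hlift s ((yon S).map αU ≫ a) ((yon S).map βV ≫ b) hpt (by
    rw [Category.assoc, hcomm]
    have := congrArg (fun k => k ≫ b) hαβ'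
    simpa only [Category.assoc] using this)
  -- lift `γ` through the chart `a`
  have hiso := isIso_epsS π hπ s
  have e1 : inv (epsS π s) ≫ (Over.homMk (Spec.map (CommRingCat.ofHom π)) :
      Over.mk (Spec.map (CommRingCat.ofHom π) ≫ s) ⟶ Over.mk s) = thickJ (RingHom.ker π) s := by
    rw [IsIso.inv_comp_eq, epsS_thickJ]
  have hfa := isFormallyEtaleMor_of_repWith_etale a ha
  obtain ⟨l, ⟨hl1, hl2⟩, -⟩ := (formallyEtale_iff' a).1 hfa B' (RingHom.ker π) hker s
    ((yon S).map (inv (epsS π s) ≫ αU)) γ (by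
      rw [Functor.map_comp, Category.assoc, ← hγ1, ← Category.assoc, ← Functor.map_comp, e1])
  obtain ⟨γ', rfl⟩ := (yon S).map_surjective l
  have hγ'1 : thickJ (RingHom.ker π) s ≫ γ' = inv (epsS π s) ≫ αU :=
    (yon S).map_injective (by rw [Functor.map_comp, hl1])
  have hγ'2 : (Over.homMk (Spec.map (CommRingCat.ofHom π)) :
      Over.mk (Spec.map (CommRingCat.ofHom π) ≫ s) ⟶ Over.mk s) ≫ γ' = αU := by
    rw [← epsS_thickJ, Category.assoc, hγ'1, IsIso.hom_inv_id_assoc]
  -- `γ' ≫ h = βV` by formal unramifiedness of `b`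
  have hfb := isFormallyEtaleMor_of_repWith_etale b hb
  obtain ⟨l₂, -, hl₂u⟩ := (formallyEtale_iff' b).1 hfb B' (RingHom.ker π) hker s
    ((yon S).map (thickJ _ s ≫ βV)) ((yon S).map βV ≫ b) (by
      rw [Functor.map_comp, Category.assoc])
  have hγ'h : γ' ≫ h = βV := by
    apply (yon S).map_injective
    rw [hl₂u ((yon S).map (γ' ≫ h)) ⟨?_, ?_⟩,
      hl₂u ((yon S).map βV) ⟨by rw [Functor.map_comp], rfl⟩]
    · rw [← Functor.map_comp, ← Category.assoc, hγ'1, Category.assoc, hαβ, ← Category.assoc, e1]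
    · rw [Functor.map_comp, Category.assoc, ← hcomm, ← Category.assoc, hl2, hγ2]
  -- `γ'` lands in the affine open `U₁`
  have hloc : IsLocalHom π := IsLocalHom.of_surjective π hπ
  have hcp : Spec.map (CommRingCat.ofHom π) (IsLocalRing.closedPoint B) =
      IsLocalRing.closedPoint B' := IsLocalRing.comap_closedPoint π
  have hγ'l : Spec.map (CommRingCat.ofHom π) ≫ γ'.left =
      Spec.map (CommRingCat.ofHom g) ≫ hU₁.fromSpec := congrArg (fun k => k.left) hγ'2
  have hcl : γ'.left (IsLocalRing.closedPoint B') ∈ U₁ := by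
    rw [← hcp, ← Scheme.Hom.comp_apply, hγ'l, Scheme.Hom.comp_apply]
    have : hU₁.fromSpec ((Spec.map (CommRingCat.ofHom g)) (IsLocalRing.closedPoint B)) ∈
        Set.range hU₁.fromSpec := ⟨_, rfl⟩
    rwa [hU₁.range_fromSpec] at this
  have hrange : Set.range γ'.left ⊆ Set.range hU₁.fromSpec := by
    rw [hU₁.range_fromSpec]
    rintro _ ⟨z, rfl⟩
    have hopen : IsOpen (γ'.left ⁻¹' (U₁ : Set ↥U.left)) := U₁.isOpen.preimage γ'.left.continuous
    have hspec : (z : PrimeSpectrum B') ⤳ IsLocalRing.closedPoint B' :=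
      IsLocalRing.specializes_closedPoint z
    exact hspec.mem_open hopen hcl
  let G : Spec (CommRingCat.of B') ⟶ Spec Γ(U.left, U₁) :=
    IsOpenImmersion.lift hU₁.fromSpec γ'.left hrange
  have hG : G ≫ hU₁.fromSpec = γ'.left := IsOpenImmersion.lift_fac _ _ _
  have hGmap : Spec.map (Spec.preimage G) = G := Spec.map_preimage G
  refine ⟨(Spec.preimage G).hom, ?_, ?_⟩
  · have h1 : Spec.map (CommRingCat.ofHom π) ≫ G = Spec.map (CommRingCat.ofHom g) := by
      rw [← cancel_mono hU₁.fromSpec, Category.assoc, hG, hγ'l]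
    rw [← hGmap, ← Spec.map_comp] at h1
    exact congrArg CommRingCat.Hom.hom (Spec.map_injective h1)
  · have h2 : γ'.left ≫ h.left = Spec.map (CommRingCat.ofHom ρ) ≫ hV₁.fromSpec :=
      congrArg (fun k => k.left) hγ'h
    have h1 : G ≫ Spec.map (h.left.appLE V₁ U₁ e) = Spec.map (CommRingCat.ofHom ρ) := by
      rw [← cancel_mono hV₁.fromSpec, Category.assoc,
        IsAffineOpen.SpecMap_appLE_fromSpec h.left hV₁ hU₁ e, ← Category.assoc, hG, h2]
    rw [← hGmap, ← Spec.map_comp] at h1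
    exact congrArg CommRingCat.Hom.hom (Spec.map_injective h1)

end Groth.Agent.H1.SmGlue
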