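import Groth.Agent.H1.SmGlue.ChartRel
import Groth.Agent.H53.Charts
import Groth.Agent.H53.EtaleLift
import Groth.Agent.H53.Glue
import Groth.Agent.H8.FormallyEtale

/-!
# Local common refinements for the point relation of an etale chart
-/

set_option autoImplicit false
universe u
open CategoryTheory CategoryTheory.Limits AlgebraicGeometry Opposite AlgSp

namespace Groth.Agent.H1.SmGlue

open Groth.Agent.H53

variable {S : Scheme.{u}} {A : Type u} [CommRing A] (str : Spec (.of A) ⟶ S)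
variable {P : Type u} [CommRing P] [Algebra A P] {X' : Sp S}
  (f' : X' ⟶ (yon S).obj (bigPt str)) (a : (yon S).obj (ptR str P) ⟶ X')
  (ha : RepWith @Etale a) (haf : a ≫ f' = (yon S).map (strMap str P))

variable {R : Type u} [CommRing R] [Algebra A R] (K : Ideal R) (hK : K ^ 2 = ⊥)
  (s₁ s₂ : P →ₐ[A] R)

set_option maxHeartbeats 1600000 in
include hK in
theorem exists_piece
    (hrel : ptOf str a ((Ideal.Quotient.mkₐ A K).comp s₁) =
      ptOf str a ((Ideal.Quotient.mkₐ A K).comp s₂))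
    (x₀ : ↥(Spec (.of (R ⧸ K)))) :
    ∃ pc : Piece (chartRel str f' a ha haf) K s₁ s₂,
      IsOpenImmersion (Spec.map (CommRingCat.ofHom pc.ρ.toRingHom)) ∧
      Spec.map (CommRingCat.ofHom (Ideal.Quotient.mk K)) x₀ ∈
        Set.range (Spec.map (CommRingCat.ofHom pc.ρ.toRingHom)) := by
  obtain ⟨Z, p, q, sq⟩ := exists_pullback_yon a a ha.rep
  have hp : Etale p.left := prop_of_isPullback_yon sq ha
  have hpq : p ≫ strMap str P = q ≫ strMap str P := by
    apply (yon S).map_injective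
    rw [Functor.map_comp, Functor.map_comp, ← haf, ← Category.assoc, ← Category.assoc, sq.w]
  obtain ⟨ζ₀, hζ⟩ := (yon S).map_surjective (sq.lift _ _ hrel)
  have hζ1 : ζ₀ ≫ p = ptMap str ((Ideal.Quotient.mkₐ A K).comp s₁) :=
    (yon S).map_injective (by rw [Functor.map_comp, hζ, sq.lift_fst])
  have hζ2 : ζ₀ ≫ q = ptMap str ((Ideal.Quotient.mkₐ A K).comp s₂) :=
    (yon S).map_injective (by rw [Functor.map_comp, hζ, sq.lift_snd])
  -- an affine open neighbourhood of the image point in `Z`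
  obtain ⟨Qc, ι, hι, hz, -⟩ := Scheme.exists_affine_mem_range_and_range_subset
    (X := Z.left) (x := ζ₀.left x₀) (U := ⊤) trivial
  obtain ⟨algQ, ιS, hιS1, hιS2⟩ := exists_alg str Z (p ≫ strMap str P) Qc ι
  obtain ⟨sk, hsk⟩ := exists_ptMap str (ιS ≫ p) (by rw [Category.assoc, hιS2])
  obtain ⟨tk, htk⟩ := exists_ptMap str (ιS ≫ q) (by rw [Category.assoc, ← hpq, hιS2])
  -- the open subset of `Spec R` lying over the affine open
  set i := Spec.map (CommRingCat.ofHom (Ideal.Quotient.mk K)) with hi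
  have hicl : IsClosedImmersion i :=
    IsClosedImmersion.spec_of_surjective _ Ideal.Quotient.mk_surjective
  have hiinj : Function.Injective i := i.isClosedEmbedding.injective
  let V₀ : (Spec (.of (R ⧸ K))).Opens := ζ₀.left ⁻¹ᵁ ι.opensRange
  have hV₀ : x₀ ∈ V₀ := hz
  let U : (Spec (.of R)).Opens :=
    ⟨(i '' (V₀ : Set ↥(Spec (.of (R ⧸ K))))ᶜ)ᶜ,
      (i.isClosedEmbedding.isClosedMap _ V₀.isOpen.isClosed_compl).isOpen_compl⟩
  have hxU : i x₀ ∈ U := by
    rintro ⟨y, hy, hyx⟩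
    exact hy (hiinj hyx ▸ hV₀)
  obtain ⟨Rc, g, hg, hxg, hgU⟩ := Scheme.exists_affine_mem_range_and_range_subset hxU
  obtain ⟨algRk, gS, hgS1, hgS2⟩ := exists_alg str (ptR str R) (strMap str R) Rc g
  obtain ⟨ρ, hρ⟩ := exists_ptMap str gS hgS2
  have hρg : Spec.map (CommRingCat.ofHom ρ.toRingHom) = g := by
    rw [← hgS1, ← hρ]; rfl
  -- the induced map on quotients
  let κ : R ⧸ K →ₐ[A] Rc ⧸ K.map ρ := Ideal.quotientMapₐ (K.map ρ) ρ Ideal.le_comap_map
  have hκ : κ.comp (Ideal.Quotient.mkₐ A K) = (Ideal.Quotient.mkₐ A (K.map ρ)).comp ρ := by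
    ext x; simp [κ]
  let c : ptR str (Rc ⧸ K.map ρ) ⟶ Z := ptMap str κ ≫ ζ₀
  have hrange : Set.range c.left ⊆ Set.range ι := by
    rintro _ ⟨y', rfl⟩
    change ζ₀.left ((ptMap str κ).left y') ∈ Set.range ι
    by_contra hcon
    have h1 : i ((ptMap str κ).left y') ∈ i '' (V₀ : Set ↥(Spec (.of (R ⧸ K))))ᶜ :=
      ⟨_, hcon, rfl⟩
    have h2 : i ((ptMap str κ).left y') =
        g ((ptMap str (Ideal.Quotient.mkₐ A (K.map ρ))).left y') := by
      have e := congrArg (fun k => k.left) (congrArg (ptMap str) hκ)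
      simp only [ptMap_comp] at e
      rw [← hρg]
      exact congr($e y')
    rw [h2] at h1
    exact hgU ⟨_, rfl⟩ h1
  have := hι
  let ℓ₀ : Spec (.of (Rc ⧸ K.map ρ)) ⟶ Spec Qc := IsOpenImmersion.lift ι c.left hrange
  have hℓ₀ : ℓ₀ ≫ ι = c.left := IsOpenImmersion.lift_fac _ _ _
  have hℓw : ℓ₀ ≫ (ptR str Qc).hom = (ptR str (Rc ⧸ K.map ρ)).hom := by
    rw [← Over.w ιS, hιS1, ← Category.assoc, hℓ₀, Over.w c]
  let ℓS : ptR str (Rc ⧸ K.map ρ) ⟶ ptR str Qc := Over.homMk ℓ₀ hℓw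
  have hℓS : ℓS ≫ ιS = c := by
    ext
    change ℓ₀ ≫ ιS.left = c.left
    rw [hιS1, hℓ₀]
  have hcp : c ≫ p = ptMap str κ ≫ ptMap str ((Ideal.Quotient.mkₐ A K).comp s₁) := by
    change (ptMap str κ ≫ ζ₀) ≫ p = _
    rw [Category.assoc, hζ1]
  have hcq : c ≫ q = ptMap str κ ≫ ptMap str ((Ideal.Quotient.mkₐ A K).comp s₂) := by
    change (ptMap str κ ≫ ζ₀) ≫ q = _
    rw [Category.assoc, hζ2]
  have hℓT : ℓS ≫ strMap str Qc = strMap str (Rc ⧸ K.map ρ) := by
    rw [← hιS2, ← Category.assoc, hℓS, ← Category.assoc, hcp, Category.assoc, ptMap_strMap,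
      ptMap_strMap]
  obtain ⟨z₀, hz₀⟩ := exists_ptMap str ℓS hℓT
  have hz₀sk : z₀.comp sk = (Ideal.Quotient.mkₐ A (K.map ρ)).comp (ρ.comp s₁) := by
    apply ptMap_injective str
    rw [ptMap_comp, hz₀, hsk, ← Category.assoc, hℓS, hcp, ← ptMap_comp, ← AlgHom.comp_assoc, hκ,
      AlgHom.comp_assoc]
  have hz₀tk : z₀.comp tk = (Ideal.Quotient.mkₐ A (K.map ρ)).comp (ρ.comp s₂) := by
    apply ptMap_injective str
    rw [ptMap_comp, hz₀, htk, ← Category.assoc, hℓS, hcq, ← ptMap_comp, ← AlgHom.comp_assoc, hκ,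
      AlgHom.comp_assoc]
  have hlift : ∀ t : P →ₐ[A] Rc, Cong (K.map ρ) t (ρ.comp s₁) →
      ∃ z : Qc →ₐ[A] Rc, z.comp sk = t ∧ (Ideal.Quotient.mkₐ A (K.map ρ)).comp z = z₀ := by
    intro t ht
    have hsket : RepWith @Etale ((yon S).map (ptMap str sk)) := by
      rw [repWith_yon_map_iff, hsk]
      change Etale (ιS.left ≫ p.left)
      rw [hιS1]
      infer_instance
    have hfe := isFormallyEtaleMor_of_repWith_etale _ hsket
    have e : z₀.comp sk = (Ideal.Quotient.mkₐ A (K.map ρ)).comp t := by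
      rw [hz₀sk]
      exact (cong_iff_mk_comp_eq.1 ht).symm
    obtain ⟨l, ⟨hl1, hl2⟩, -⟩ := exists_unique_lift str (K.map ρ) _ hfe
      (map_pow_two_eq_bot hK ρ) ((yon S).map (ptMap str z₀)) ((yon S).map (ptMap str t)) (by
        rw [← Functor.map_comp, ← Functor.map_comp, ← ptMap_comp, ← ptMap_comp, e])
    obtain ⟨g', rfl⟩ := (yon S).map_surjective l
    have hg'1 : ptMap str (Ideal.Quotient.mkₐ A (K.map ρ)) ≫ g' = ptMap str z₀ :=
      (yon S).map_injective (by rw [Functor.map_comp, hl1])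
    have hg'2 : g' ≫ ptMap str sk = ptMap str t :=
      (yon S).map_injective (by rw [Functor.map_comp, hl2])
    have hg'T : g' ≫ strMap str Qc = strMap str Rc := by
      rw [← ptMap_strMap str sk, ← Category.assoc, hg'2, ptMap_strMap]
    obtain ⟨z, rfl⟩ := exists_ptMap str g' hg'T
    refine ⟨z, ?_, ?_⟩
    · apply ptMap_injective str
      rw [ptMap_comp]
      exact hg'2
    · apply ptMap_injective str
      rw [ptMap_comp]
      exact hg'1
  have hrelsk : ∀ (R' : Type u) [CommRing R'] [Algebra A R'] (z : Qc →ₐ[A] R'),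
      ptOf str a (z.comp sk) = ptOf str a (z.comp tk) := by
    intro R' _ _ z
    rw [ptOf, ptOf, ptMap_comp, ptMap_comp, hsk, htk]
    simp only [Functor.map_comp, Category.assoc]
    rw [sq.w]
  refine ⟨⟨Rc, ρ, Qc, sk, tk, z₀, hz₀sk, hz₀tk, hlift, hrelsk⟩, ?_, ?_⟩
  · change IsOpenImmersion (Spec.map (CommRingCat.ofHom ρ.toRingHom))
    rw [hρg]
    exact hg
  · change i x₀ ∈ Set.range (Spec.map (CommRingCat.ofHom ρ.toRingHom))
    rw [hρg]
    exact hxg

/-- The point relation of an etale chart has local common refinements. -/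
theorem chartRel_hasRef : (chartRel str f' a ha haf).HasRef := by
  intro R _ _ K hK s₁ s₂ hrel
  choose pc hpc1 hpc2 using exists_piece str f' a ha haf K hK s₁ s₂ hrel
  refine ⟨↥(Spec (.of (R ⧸ K))), pc, fun t t' h => ?_⟩
  change ptOf str a t = ptOf str a t'
  refine hom_ext_of_family (fun x => ptR str (pc x).Rk)
    (fun x => (yon S).map (ptMap str (pc x).ρ))
    (cover_of_family (T' := ptR str R) _ _ (fun x => ?_) (fun x => ?_) ?_) _ _ (fun x => ?_)
  · have := hpc1 x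
    change Flat (Spec.map (CommRingCat.ofHom (pc x).ρ.toRingHom))
    infer_instance
  · have := hpc1 x
    change LocallyOfFinitePresentation (Spec.map (CommRingCat.ofHom (pc x).ρ.toRingHom))
    infer_instance
  · intro z
    obtain ⟨x, rfl⟩ := Groth.Agent.H8.specMap_quotientMk_surjective K hK z
    exact ⟨x, hpc2 x⟩
  · rw [← ptOf_comp, ← ptOf_comp]
    exact h x

end Groth.Agent.H1.SmGlue
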