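import Groth.Agent.H1.SmGlue.Aff

/-!
# Point relations on algebra maps, and affineness of transition maps

`PtRel A P` axiomatises the relation "`s, t : P →ₐ[A] R` define the same `R`-point of `X`" for an
etale chart `Spec P → X` of a sheaf `X` over `Spec A`: it is an equivalence relation, stable under
postcomposition, and the chart is formally etale (unique lifting along square-zero ideals).
`HasRef` axiomatises that two chart lifts of the same point are Zariski-locally dominated by a common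
chart.  Under `HasRef`, the transition bijections between sets of lifts are affine.
-/

set_option autoImplicit false
universe u

namespace Groth.Agent.H1.SmGlue

variable {A : Type u} [CommRing A] {P : Type u} [CommRing P] [Algebra A P]

/-- The relation "same point of `X`" on maps from the coordinate ring of a formally etale chart. -/
structure PtRel (A P : Type u) [CommRing A] [CommRing P] [Algebra A P] where
  rel : ∀ (R : Type u) [CommRing R] [Algebra A R], (P →ₐ[A] R) → (P →ₐ[A] R) → Prop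
  refl : ∀ (R : Type u) [CommRing R] [Algebra A R] (s : P →ₐ[A] R), rel R s s
  symm : ∀ {R : Type u} [CommRing R] [Algebra A R] {s t : P →ₐ[A] R}, rel R s t → rel R t s
  trans : ∀ {R : Type u} [CommRing R] [Algebra A R] {s t w : P →ₐ[A] R},
    rel R s t → rel R t w → rel R s w
  map : ∀ {R R' : Type u} [CommRing R] [Algebra A R] [CommRing R'] [Algebra A R']
    (f : R →ₐ[A] R') {s t : P →ₐ[A] R}, rel R s t → rel R' (f.comp s) (f.comp t)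
  uniq : ∀ {R : Type u} [CommRing R] [Algebra A R] (K : Ideal R), K ^ 2 = ⊥ →
    ∀ s t : P →ₐ[A] R, Cong K s t → rel R s t → s = t
  exist : ∀ {R : Type u} [CommRing R] [Algebra A R] (K : Ideal R), K ^ 2 = ⊥ →
    ∀ t s₂ : P →ₐ[A] R,
      rel (R ⧸ K) ((Ideal.Quotient.mkₐ A K).comp s₂) ((Ideal.Quotient.mkₐ A K).comp t) →
      ∃ θ : P →ₐ[A] R, Cong K θ s₂ ∧ rel R θ t

/-- A local common refinement of the two chart lifts `s₁`, `s₂` (congruent to the same point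
modulo `K`). -/
structure Piece (E : PtRel A P) {R : Type u} [CommRing R] [Algebra A R] (K : Ideal R)
    (s₁ s₂ : P →ₐ[A] R) where
  Rk : Type u
  [crRk : CommRing Rk]
  [algRk : Algebra A Rk]
  ρ : R →ₐ[A] Rk
  Q : Type u
  [crQ : CommRing Q]
  [algQ : Algebra A Q]
  sk : P →ₐ[A] Q
  tk : P →ₐ[A] Q
  z₀ : Q →ₐ[A] Rk ⧸ K.map ρ
  z₀_sk : z₀.comp sk = (Ideal.Quotient.mkₐ A (K.map ρ)).comp (ρ.comp s₁)
  z₀_tk : z₀.comp tk = (Ideal.Quotient.mkₐ A (K.map ρ)).comp (ρ.comp s₂)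
  lift : ∀ t : P →ₐ[A] Rk, Cong (K.map ρ) t (ρ.comp s₁) →
    ∃ z : Q →ₐ[A] Rk, z.comp sk = t ∧ (Ideal.Quotient.mkₐ A (K.map ρ)).comp z = z₀
  rel_sk_tk : ∀ (R' : Type u) [CommRing R'] [Algebra A R'] (z : Q →ₐ[A] R'),
    E.rel R' (z.comp sk) (z.comp tk)

attribute [instance] Piece.crRk Piece.algRk Piece.crQ Piece.algQ

/-- Two chart lifts of the same point are locally dominated by a common chart, and the relation is
local for the corresponding family of localisations. -/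
def PtRel.HasRef (E : PtRel A P) : Prop :=
  ∀ (R : Type u) [CommRing R] [Algebra A R] (K : Ideal R), K ^ 2 = ⊥ → ∀ s₁ s₂ : P →ₐ[A] R,
    E.rel (R ⧸ K) ((Ideal.Quotient.mkₐ A K).comp s₁) ((Ideal.Quotient.mkₐ A K).comp s₂) →
    ∃ (ι : Type u) (pc : ι → Piece E K s₁ s₂), ∀ t t' : P →ₐ[A] R,
      (∀ i, E.rel (pc i).Rk ((pc i).ρ.comp t) ((pc i).ρ.comp t')) → E.rel R t t'

variable (E : PtRel A P) {R : Type u} [CommRing R] [Algebra A R]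

/-- `θ` is the transport of the lift `t` to the chart lift `s₂`. -/
def IsTrans (K : Ideal R) (s₂ t θ : P →ₐ[A] R) : Prop := Cong K θ s₂ ∧ E.rel R θ t

variable {E}

theorem IsTrans.unique {K : Ideal R} (hK : K ^ 2 = ⊥) {s₂ t θ θ' : P →ₐ[A] R}
    (h : IsTrans E K s₂ t θ) (h' : IsTrans E K s₂ t θ') : θ = θ' :=
  E.uniq K hK θ θ' (h.1.trans h'.1.symm) (E.trans h.2 (E.symm h'.2))

theorem IsTrans.exists {K : Ideal R} (hK : K ^ 2 = ⊥) {s₁ s₂ : P →ₐ[A] R}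
    (H : E.rel (R ⧸ K) ((Ideal.Quotient.mkₐ A K).comp s₁) ((Ideal.Quotient.mkₐ A K).comp s₂))
    {t : P →ₐ[A] R} (ht : Cong K t s₁) : ∃ θ, IsTrans E K s₂ t θ := by
  have e : (Ideal.Quotient.mkₐ A K).comp t = (Ideal.Quotient.mkₐ A K).comp s₁ :=
    cong_iff_mk_comp_eq.1 ht
  exact E.exist K hK t s₂ (by rw [e]; exact E.symm H)

theorem IsTrans.map {K : Ideal R} {s₂ t θ : P →ₐ[A] R} (h : IsTrans E K s₂ t θ)
    {R' : Type u} [CommRing R'] [Algebra A R'] (f : R →ₐ[A] R') {K' : Ideal R'}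
    (hK : K.map f ≤ K') : IsTrans E K' (f.comp s₂) (f.comp t) (f.comp θ) :=
  ⟨h.1.comp f hK, E.map f h.2⟩

theorem map_pow_two_eq_bot {K : Ideal R} (hK : K ^ 2 = ⊥) {R' : Type u} [CommRing R']
    [Algebra A R'] (f : R →ₐ[A] R') : (K.map f) ^ 2 = ⊥ := by
  rw [← Ideal.map_pow, hK, Ideal.map_bot]

/-- In a piece, the lift `z` of `ρ ∘ t` satisfies `z ∘ tk = ρ ∘ θ`. -/
theorem Piece.comp_tk_eq {K : Ideal R} (hK : K ^ 2 = ⊥) {s₁ s₂ : P →ₐ[A] R}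
    (pc : Piece E K s₁ s₂) {t θ : P →ₐ[A] R} (h : IsTrans E K s₂ t θ)
    (z : pc.Q →ₐ[A] pc.Rk) (hz1 : z.comp pc.sk = pc.ρ.comp t)
    (hz2 : (Ideal.Quotient.mkₐ A (K.map pc.ρ)).comp z = pc.z₀) :
    z.comp pc.tk = pc.ρ.comp θ := by
  refine E.uniq (K.map pc.ρ) (map_pow_two_eq_bot hK pc.ρ) _ _ ?_ ?_
  · rw [cong_iff_mk_comp_eq, ← AlgHom.comp_assoc, hz2, pc.z₀_tk]
    exact (cong_iff_mk_comp_eq.1 (h.1.comp pc.ρ le_rfl)).symm
  · have h1 := E.symm (pc.rel_sk_tk pc.Rk z)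
    rw [hz1] at h1
    exact E.trans h1 (E.symm (E.map pc.ρ h.2))

theorem IsTrans.aff3 (hE : E.HasRef) {K : Ideal R} (hK : K ^ 2 = ⊥) {s₁ s₂ : P →ₐ[A] R}
    (H : E.rel (R ⧸ K) ((Ideal.Quotient.mkₐ A K).comp s₁) ((Ideal.Quotient.mkₐ A K).comp s₂))
    {t₁ t₂ t₃ θ₁ θ₂ θ₃ : P →ₐ[A] R} (ht₁ : Cong K t₁ s₁) (ht₂ : Cong K t₂ s₁) (ht₃ : Cong K t₃ s₁)
    (h₁ : IsTrans E K s₂ t₁ θ₁) (h₂ : IsTrans E K s₂ t₂ θ₂) (h₃ : IsTrans E K s₂ t₃ θ₃) :
    IsTrans E K s₂ (aff3 K hK t₁ t₂ t₃ (ht₂.trans ht₁.symm) (ht₃.trans ht₁.symm))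
      (aff3 K hK θ₁ θ₂ θ₃ (h₂.1.trans h₁.1.symm) (h₃.1.trans h₁.1.symm)) := by
  refine ⟨(aff3_cong K hK _ _ _ _ _).trans h₁.1, E.symm ?_⟩
  obtain ⟨ι, pc, hloc⟩ := hE R K hK s₁ s₂ H
  refine hloc _ _ fun i => ?_
  have hKk := map_pow_two_eq_bot hK (pc i).ρ
  obtain ⟨z₁, hz11, hz12⟩ := (pc i).lift ((pc i).ρ.comp t₁) (ht₁.comp _ le_rfl)
  obtain ⟨z₂, hz21, hz22⟩ := (pc i).lift ((pc i).ρ.comp t₂) (ht₂.comp _ le_rfl)
  obtain ⟨z₃, hz31, hz32⟩ := (pc i).lift ((pc i).ρ.comp t₃) (ht₃.comp _ le_rfl)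
  have e1 := (pc i).comp_tk_eq hK h₁ z₁ hz11 hz12
  have e2 := (pc i).comp_tk_eq hK h₂ z₂ hz21 hz22
  have e3 := (pc i).comp_tk_eq hK h₃ z₃ hz31 hz32
  have c2 : Cong (K.map (pc i).ρ) z₂ z₁ := cong_iff_mk_comp_eq.2 (by rw [hz22, hz12])
  have c3 : Cong (K.map (pc i).ρ) z₃ z₁ := cong_iff_mk_comp_eq.2 (by rw [hz32, hz12])
  have key := (pc i).rel_sk_tk (pc i).Rk (SmGlue.aff3 (K.map (pc i).ρ) hKk z₁ z₂ z₃ c2 c3)
  have a1 : (SmGlue.aff3 (K.map (pc i).ρ) hKk z₁ z₂ z₃ c2 c3).comp (pc i).sk =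
      (pc i).ρ.comp (SmGlue.aff3 K hK t₁ t₂ t₃ (ht₂.trans ht₁.symm) (ht₃.trans ht₁.symm)) := by
    ext x
    have q1 := congr($hz11 x); have q2 := congr($hz21 x); have q3 := congr($hz31 x)
    simp only [AlgHom.comp_apply] at q1 q2 q3
    simp [q1, q2, q3]
  have a2 : (SmGlue.aff3 (K.map (pc i).ρ) hKk z₁ z₂ z₃ c2 c3).comp (pc i).tk =
      (pc i).ρ.comp (SmGlue.aff3 K hK θ₁ θ₂ θ₃ (h₂.1.trans h₁.1.symm) (h₃.1.trans h₁.1.symm)) := by
    ext x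
    have q1 := congr($e1 x); have q2 := congr($e2 x); have q3 := congr($e3 x)
    simp only [AlgHom.comp_apply] at q1 q2 q3
    simp [q1, q2, q3]
  rw [a1, a2] at key
  exact key

theorem IsTrans.affr (hE : E.HasRef) {K : Ideal R} (hK : K ^ 2 = ⊥) {s₁ s₂ : P →ₐ[A] R}
    (H : E.rel (R ⧸ K) ((Ideal.Quotient.mkₐ A K).comp s₁) ((Ideal.Quotient.mkₐ A K).comp s₂))
    (r : R) {t₁ t₂ θ₁ θ₂ : P →ₐ[A] R} (ht₁ : Cong K t₁ s₁) (ht₂ : Cong K t₂ s₁)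
    (h₁ : IsTrans E K s₂ t₁ θ₁) (h₂ : IsTrans E K s₂ t₂ θ₂) :
    IsTrans E K s₂ (affr K hK r t₁ t₂ (ht₂.trans ht₁.symm))
      (affr K hK r θ₁ θ₂ (h₂.1.trans h₁.1.symm)) := by
  refine ⟨(affr_cong K hK _ _ _ _).trans h₁.1, E.symm ?_⟩
  obtain ⟨ι, pc, hloc⟩ := hE R K hK s₁ s₂ H
  refine hloc _ _ fun i => ?_
  have hKk := map_pow_two_eq_bot hK (pc i).ρ
  obtain ⟨z₁, hz11, hz12⟩ := (pc i).lift ((pc i).ρ.comp t₁) (ht₁.comp _ le_rfl)
  obtain ⟨z₂, hz21, hz22⟩ := (pc i).lift ((pc i).ρ.comp t₂) (ht₂.comp _ le_rfl)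
  have e1 := (pc i).comp_tk_eq hK h₁ z₁ hz11 hz12
  have e2 := (pc i).comp_tk_eq hK h₂ z₂ hz21 hz22
  have c2 : Cong (K.map (pc i).ρ) z₂ z₁ := cong_iff_mk_comp_eq.2 (by rw [hz22, hz12])
  have key := (pc i).rel_sk_tk (pc i).Rk (SmGlue.affr (K.map (pc i).ρ) hKk ((pc i).ρ r) z₁ z₂ c2)
  have a1 : (SmGlue.affr (K.map (pc i).ρ) hKk ((pc i).ρ r) z₁ z₂ c2).comp (pc i).sk =
      (pc i).ρ.comp (SmGlue.affr K hK r t₁ t₂ (ht₂.trans ht₁.symm)) := by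
    ext x
    have q1 := congr($hz11 x); have q2 := congr($hz21 x)
    simp only [AlgHom.comp_apply] at q1 q2
    simp [q1, q2]
  have a2 : (SmGlue.affr (K.map (pc i).ρ) hKk ((pc i).ρ r) z₁ z₂ c2).comp (pc i).tk =
      (pc i).ρ.comp (SmGlue.affr K hK r θ₁ θ₂ (h₂.1.trans h₁.1.symm)) := by
    ext x
    have q1 := congr($e1 x); have q2 := congr($e2 x)
    simp only [AlgHom.comp_apply] at q1 q2
    simp [q1, q2]
  rw [a1, a2] at key
  exact key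

end Groth.Agent.H1.SmGlue
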