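import Groth.Agent.H1.SmGlue.Pt
import Groth.Agent.H1.SmGlue.Rel

/-!
# The point relation of an etale chart
-/

set_option autoImplicit false
universe u
open CategoryTheory CategoryTheory.Limits AlgebraicGeometry Opposite AlgSp

namespace Groth.Agent.H1.SmGlue

open Groth.Agent.H53

variable {S : Scheme.{u}} {A : Type u} [CommRing A] (str : Spec (.of A) ⟶ S)

section lifting

variable {R : Type u} [CommRing R] [Algebra A R] (K : Ideal R)

theorem algebraMap_quot :
    algebraMap A (R ⧸ K) = (Ideal.Quotient.mk K).comp (algebraMap A R) :=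
  (Ideal.Quotient.mk_comp_algebraMap A K).symm

theorem qIso_aux : Spec.map (CommRingCat.ofHom (Ideal.Quotient.mk K)) ≫
      Spec.map (CommRingCat.ofHom (algebraMap A R)) ≫ str =
        Spec.map (CommRingCat.ofHom (algebraMap A (R ⧸ K))) ≫ str := by
  rw [← Category.assoc, ← Spec.map_comp, ← CommRingCat.ofHom_comp, algebraMap_quot]

theorem qIso_aux' : (Iso.refl (Spec (.of (R ⧸ K)))).hom ≫
    (smallPt K (Spec.map (CommRingCat.ofHom (algebraMap A R)) ≫ str)).hom =
      (ptR str (R ⧸ K)).hom := by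
  rw [Iso.refl_hom, Category.id_comp]
  exact qIso_aux str K

/-- `Spec (R ⧸ K)` in the two forms. -/
noncomputable def qIso : ptR str (R ⧸ K) ≅
    smallPt K (Spec.map (CommRingCat.ofHom (algebraMap A R)) ≫ str) :=
  Over.isoMk (Iso.refl (Spec (.of (R ⧸ K)))) (qIso_aux' str K)

theorem qIso_hom_thickJ :
    (qIso str K).hom ≫ thickJ K (Spec.map (CommRingCat.ofHom (algebraMap A R)) ≫ str) =
      ptMap str (Ideal.Quotient.mkₐ A K) := by
  ext
  change 𝟙 _ ≫ Spec.map (CommRingCat.ofHom (Ideal.Quotient.mk K)) = _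
  rw [Category.id_comp]
  rfl

/-- Unique lifting for a formally etale morphism, in the `ptR` format. -/
theorem exists_unique_lift {F G : Sp S} (a : F ⟶ G) (ha : IsFormallyEtaleMor a) (hK : K ^ 2 = ⊥)
    (top : (yon S).obj (ptR str (R ⧸ K)) ⟶ F) (bot : (yon S).obj (ptR str R) ⟶ G)
    (comm : top ≫ a = (yon S).map (ptMap str (Ideal.Quotient.mkₐ A K)) ≫ bot) :
    ∃! l : (yon S).obj (ptR str R) ⟶ F,
      (yon S).map (ptMap str (Ideal.Quotient.mkₐ A K)) ≫ l = top ∧ l ≫ a = bot := by
  have h := (formallyEtale_iff' a).1 ha R K hK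
    (Spec.map (CommRingCat.ofHom (algebraMap A R)) ≫ str)
    ((yon S).map (qIso str K).inv ≫ top) bot (by
      rw [Category.assoc, comm, ← qIso_hom_thickJ, Functor.map_comp, ← Category.assoc,
        ← Category.assoc, ← Functor.map_comp, Iso.inv_hom_id, CategoryTheory.Functor.map_id, Category.id_comp])
  obtain ⟨l, ⟨h1, h2⟩, h3⟩ := h
  refine ⟨l, ⟨?_, h2⟩, ?_⟩
  · rw [← qIso_hom_thickJ, Functor.map_comp, Category.assoc, h1, ← Category.assoc,
      ← Functor.map_comp, Iso.hom_inv_id, CategoryTheory.Functor.map_id, Category.id_comp]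
  · rintro l' ⟨h1', h2'⟩
    refine h3 l' ⟨?_, h2'⟩
    rw [← h1', ← qIso_hom_thickJ, Functor.map_comp, ← Category.assoc, ← Category.assoc,
      ← Functor.map_comp, Iso.inv_hom_id, CategoryTheory.Functor.map_id, Category.id_comp]

end lifting

section chart

variable {P : Type u} [CommRing P] [Algebra A P] {X' : Sp S}
  (f' : X' ⟶ (yon S).obj (bigPt str)) (a : (yon S).obj (ptR str P) ⟶ X')
  (ha : RepWith @Etale a) (haf : a ≫ f' = (yon S).map (strMap str P))

/-- The `R`-point of `X'` of a map `P → R`. -/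
noncomputable def ptOf {R : Type u} [CommRing R] [Algebra A R] (s : P →ₐ[A] R) :
    (yon S).obj (ptR str R) ⟶ X' := (yon S).map (ptMap str s) ≫ a

theorem ptOf_comp {R R' : Type u} [CommRing R] [Algebra A R] [CommRing R'] [Algebra A R']
    (φ : R →ₐ[A] R') (s : P →ₐ[A] R) :
    ptOf str a (φ.comp s) = (yon S).map (ptMap str φ) ≫ ptOf str a s := by
  rw [ptOf, ptOf, ptMap_comp, Functor.map_comp, Category.assoc]

include haf in
theorem ptOf_f' {R : Type u} [CommRing R] [Algebra A R] (s : P →ₐ[A] R) :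
    ptOf str a s ≫ f' = (yon S).map (strMap str R) := by
  rw [ptOf, Category.assoc, haf, ← Functor.map_comp, ptMap_strMap]

include ha in
theorem ptOf_uniq {R : Type u} [CommRing R] [Algebra A R] (K : Ideal R) (hK : K ^ 2 = ⊥)
    (s t : P →ₐ[A] R) (hst : Cong K s t) (hrel : ptOf str a s = ptOf str a t) : s = t := by
  have hfe := isFormallyEtaleMor_of_repWith_etale a ha
  have e := cong_iff_mk_comp_eq.1 hst
  obtain ⟨l, -, hl⟩ := exists_unique_lift str K a hfe hK
    ((yon S).map (ptMap str ((Ideal.Quotient.mkₐ A K).comp s))) (ptOf str a s) (by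
      rw [← ptOf_comp]; rfl)
  have h1 := hl ((yon S).map (ptMap str s)) ⟨by rw [← Functor.map_comp, ← ptMap_comp], rfl⟩
  have h2 := hl ((yon S).map (ptMap str t)) ⟨by rw [← Functor.map_comp, ← ptMap_comp, e],
    hrel.symm⟩
  exact ptMap_injective str ((yon S).map_injective (h1.trans h2.symm))

include ha haf in
theorem ptOf_exist {R : Type u} [CommRing R] [Algebra A R] (K : Ideal R) (hK : K ^ 2 = ⊥)
    (t s₂ : P →ₐ[A] R)
    (hrel : ptOf str a ((Ideal.Quotient.mkₐ A K).comp s₂) =
      ptOf str a ((Ideal.Quotient.mkₐ A K).comp t)) :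
    ∃ θ : P →ₐ[A] R, Cong K θ s₂ ∧ ptOf str a θ = ptOf str a t := by
  have hfe := isFormallyEtaleMor_of_repWith_etale a ha
  obtain ⟨l, ⟨hl1, hl2⟩, -⟩ := exists_unique_lift str K a hfe hK
    ((yon S).map (ptMap str ((Ideal.Quotient.mkₐ A K).comp s₂))) (ptOf str a t) (by
      rw [← ptOf_comp]; exact hrel)
  obtain ⟨g, rfl⟩ := (yon S).map_surjective l
  have hg : g ≫ strMap str P = strMap str R := by
    apply (yon S).map_injective
    rw [Functor.map_comp, ← haf, ← Category.assoc, hl2, ptOf_f' str f' a haf]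
  obtain ⟨θ, rfl⟩ := exists_ptMap str g hg
  refine ⟨θ, cong_iff_mk_comp_eq.2 ?_, hl2⟩
  apply ptMap_injective str
  apply (yon S).map_injective
  rw [ptMap_comp, Functor.map_comp, hl1]

/-- The point relation of an etale chart. -/
noncomputable def chartRel : PtRel A P where
  rel R _ _ s t := ptOf str a s = ptOf str a t
  refl _ _ _ s := rfl
  symm h := h.symm
  trans h h' := h.trans h'
  map φ s t h := by rw [ptOf_comp, ptOf_comp, h]
  uniq K hK s t hst hrel := ptOf_uniq str a ha K hK s t hst hrel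
  exist K hK t s₂ hrel := ptOf_exist str f' a ha haf K hK t s₂ hrel

end chart

end Groth.Agent.H1.SmGlue
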