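import Groth.Agent.H1.SmGlue.Descend

/-!
# Chart data for a lifting problem, and the resulting lift
-/

set_option autoImplicit false
universe u
open CategoryTheory CategoryTheory.Limits AlgebraicGeometry Opposite AlgSp TensorProduct

namespace Groth.Agent.H1.SmGlue

open Groth.Agent.H53

variable {S : Scheme.{u}} {A : Type u} [CommRing A] (I : Ideal A) (str : Spec (.of A) ⟶ S)
variable {X' : Sp S} (top' : (yon S).obj (smallPt I str) ⟶ X')
variable {U' : Over S} (α : (yon S).obj U' ⟶ X') (u' : U' ⟶ bigPt str)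

/-- A local solution of the lifting problem, on an affine etale `Spec A₁ ⟶ Spec A`, that factors
through an affine scheme `Spec P` etale over the atlas `U'`. -/
structure Datum where
  P : Type u
  [crP : CommRing P]
  A₁ : Type u
  [crA₁ : CommRing A₁]
  o : Spec (.of P) ⟶ U'.left
  π : Spec (.of A₁) ⟶ Spec (.of A)
  lam : Spec (.of A₁) ⟶ Spec (.of P)
  ho : Etale o
  hπ : Etale π
  w : lam ≫ o ≫ u'.left = π
  compat : ∀ (W : Over S) (g₁ : W ⟶ smallPt I str) (g₂ : W.left ⟶ Spec (.of A₁)) (g₃ : W ⟶ U'),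
    g₁.left ≫ Spec.map (CommRingCat.ofHom (Ideal.Quotient.mk I)) = g₂ ≫ π →
    g₃.left = g₂ ≫ lam ≫ o → (yon S).map g₃ ≫ α = (yon S).map g₁ ≫ top'

attribute [instance] Datum.crP Datum.crA₁

section lift

variable {I str top' α u'}
variable (hI : I ^ 2 = ⊥) (f' : X' ⟶ (yon S).obj (bigPt str)) (hf' : LocP @Smooth f')
  (hα : RepWith @Etale α) (hu' : α ≫ f' = (yon S).map u')

set_option maxHeartbeats 1600000 in
include hI hf' hα hu' in
theorem Datum.exists_lift (D : Datum I str top' α u') (hsurj : Surjective D.π) :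
    ∃ l : (yon S).obj (bigPt str) ⟶ X',
      (yon S).map (thickJ I str) ≫ l = top' ∧ l ≫ f' = 𝟙 _ := by
  obtain ⟨algP, oS, hoS1, hoS2⟩ := exists_alg str U' u' D.P D.o
  obtain ⟨algA₁, πS, hπS1, hπS2⟩ := exists_alg str (bigPt str) (𝟙 _) D.A₁ D.π
  rw [Category.comp_id] at hπS2
  have hπ' : Spec.map (CommRingCat.ofHom (algebraMap A D.A₁)) = D.π := by
    rw [← hπS1, hπS2]
    rfl
  have hoP : Spec.map (CommRingCat.ofHom (algebraMap A D.P)) = D.o ≫ u'.left := by
    have := congrArg (fun k => k.left) hoS2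
    simp only [Over.comp_left, hoS1] at this
    exact this.symm
  have hlw : D.lam ≫ (ptR str D.P).hom = (ptR str D.A₁).hom := by
    change D.lam ≫ Spec.map (CommRingCat.ofHom (algebraMap A D.P)) ≫ str =
      Spec.map (CommRingCat.ofHom (algebraMap A D.A₁)) ≫ str
    rw [hoP, hπ', ← D.w]
    simp only [Category.assoc]
  let lamS : ptR str D.A₁ ⟶ ptR str D.P := Over.homMk D.lam hlw
  have hlT : lamS ≫ strMap str D.P = strMap str D.A₁ := by
    ext
    change D.lam ≫ Spec.map (CommRingCat.ofHom (algebraMap A D.P)) =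
      Spec.map (CommRingCat.ofHom (algebraMap A D.A₁))
    rw [hoP, hπ', D.w]
  obtain ⟨b₀, hb₀⟩ := exists_ptMap str lamS hlT
  letI : Algebra D.P D.A₁ := b₀.toRingHom.toAlgebra
  haveI : IsScalarTower A D.P D.A₁ :=
    IsScalarTower.of_algebraMap_eq (fun x => (b₀.commutes x).symm)
  have hb : bmap A D.P D.A₁ = b₀ := by
    ext x; rfl
  -- the chart
  have hoSet : Etale oS.left := by rw [hoS1]; exact D.ho
  have ha : RepWith @Etale ((yon S).map oS ≫ α) := repWith_etale_map_comp oS hoSet α hα
  have haf : ((yon S).map oS ≫ α) ≫ f' = (yon S).map (strMap str D.P) := by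
    rw [Category.assoc, hu', ← Functor.map_comp, hoS2]
  -- smoothness of `P`
  have hu's : Smooth u'.left :=
    hf' α (𝟙 _) u' hα (repWith_id _ _) (by rw [Category.comp_id, hu'])
  have hsmP : Smooth (Spec.map (CommRingCat.ofHom (algebraMap A D.P))) := by
    rw [hoP]
    have := D.ho
    infer_instance
  have hAlgSm : Algebra.Smooth A D.P :=
    RingHom.smooth_algebraMap.1 (HasRingHomProperty.Spec_iff.1 hsmP)
  -- the cover
  have hπet : Etale (Spec.map (CommRingCat.ofHom (algebraMap A D.A₁))) := by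
    rw [hπ']; exact D.hπ
  have h1 : Flat (Spec.map (CommRingCat.ofHom (algebraMap A D.A₁))) := inferInstance
  have h2 : LocallyOfFinitePresentation (Spec.map (CommRingCat.ofHom (algebraMap A D.A₁))) :=
    inferInstance
  have h3 : Surjective (Spec.map (CommRingCat.ofHom (algebraMap A D.A₁))) := by
    rw [hπ']; exact hsurj
  have hflat : Module.Flat A D.A₁ :=
    RingHom.flat_algebraMap_iff.1 (HasRingHomProperty.Spec_iff.1 h1)
  have hff : Module.FaithfullyFlat A D.A₁ :=
    Module.FaithfullyFlat.of_comap_surjective h3.surj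
  refine exists_lift_of_chart I str hI f' top' ((yon S).map oS ≫ α) ha haf D.A₁ h1 h2 h3 ?_
  -- compatibility
  rw [hb]
  have e1 : ptOf str ((yon S).map oS ≫ α) ((Ideal.Quotient.mkₐ A (JJ I D.A₁)).comp b₀) =
      (yon S).map ((ptMap str (Ideal.Quotient.mkₐ A (JJ I D.A₁)) ≫ lamS) ≫ oS) ≫ α := by
    rw [ptOf, ptMap_comp, hb₀]
    simp only [Functor.map_comp, Category.assoc]
  rw [e1]
  refine D.compat _ (smallMap I str D.A₁) (Spec.map (CommRingCat.ofHom
    (Ideal.Quotient.mk (JJ I D.A₁)))) _ ?_ ?_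
  · have := congrArg (fun k => k.left) (smallMap_thickJ I str D.A₁)
    simp only [Over.comp_left] at this
    rw [← hπ']
    exact this
  · simp only [Over.comp_left, hoS1]
    rfl

end lift

end Groth.Agent.H1.SmGlue
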