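import Groth.Agent.H1.SmGlue.Aff

/-!
# Lifts congruent to the structure map versus derivations

For a tower `A → P → R` and a square-zero ideal `J` of `R`, lifts `P →ₐ[A] R` congruent to the
structure map modulo `J` correspond to `A`-derivations `P → J`; sums and scalar multiples of
derivations correspond to the affine combinations `aff3`, `affr`.
-/

set_option autoImplicit false
universe u

namespace Groth.Agent.H1.SmGlue

variable {A : Type u} [CommRing A] {P : Type u} [CommRing P] [Algebra A P]
variable {R : Type u} [CommRing R] [Algebra A R] [Algebra P R] [IsScalarTower A P R]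
variable (J : Ideal R) (hJ : J ^ 2 = ⊥)

/-- The structure map as an `A`-algebra map. -/
abbrev bmap (A P R : Type u) [CommRing A] [CommRing P] [Algebra A P] [CommRing R] [Algebra A R]
    [Algebra P R] [IsScalarTower A P R] : P →ₐ[A] R := IsScalarTower.toAlgHom A P R

/-- The lift `x ↦ D x + x` attached to a derivation. -/
noncomputable def liftD (D : Derivation A P J) : P →ₐ[A] R := liftOfDerivationToSquareZero J hJ D

@[simp]
theorem liftD_apply (D : Derivation A P J) (x : P) :
    liftD J hJ D x = (D x : R) + algebraMap P R x := rfl

theorem liftD_cong (D : Derivation A P J) : Cong J (liftD J hJ D) (bmap A P R) := fun x => by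
  simp

theorem liftD_zero : liftD J hJ (0 : Derivation A P J) = bmap A P R := by
  ext x; simp

/-- The derivation `x ↦ s x - x` attached to a lift congruent to the structure map. -/
noncomputable def derL (s : P →ₐ[A] R) (hs : Cong J s (bmap A P R)) : Derivation A P J :=
  derivationToSquareZeroOfLift J hJ s (by
    have := cong_iff_mk_comp_eq.1 hs
    rw [this]; ext x; rfl)

@[simp]
theorem derL_apply (s : P →ₐ[A] R) (hs : Cong J s (bmap A P R)) (x : P) :
    (derL J hJ s hs x : R) = s x - algebraMap P R x := rfl

@[simp]
theorem liftD_derL (s : P →ₐ[A] R) (hs : Cong J s (bmap A P R)) :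
    liftD J hJ (derL J hJ s hs) = s := by
  ext x; simp

@[simp]
theorem derL_liftD (D : Derivation A P J) : derL J hJ (liftD J hJ D) (liftD_cong J hJ D) = D := by
  ext x; simp

theorem liftD_injective : Function.Injective (liftD (A := A) (P := P) J hJ) := fun D D' h => by
  ext x
  have := congr($h x)
  simpa using this

theorem liftD_add (D D' : Derivation A P J) :
    liftD J hJ (D + D') =
      aff3 J hJ (bmap A P R) (liftD J hJ D) (liftD J hJ D') (liftD_cong J hJ D)
        (liftD_cong J hJ D') := by
  ext x; simp; ring

theorem liftD_smul (r : R) (D : Derivation A P J) :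
    liftD J hJ (r • D) = affr J hJ r (bmap A P R) (liftD J hJ D) (liftD_cong J hJ D) := by
  ext x; simp; ring

theorem liftD_sub_apply (D D' : Derivation A P J) (x : P) :
    ((D - D') x : R) = liftD J hJ D x - liftD J hJ D' x := by
  simp

section map

variable {R' : Type u} [CommRing R'] [Algebra A R'] [Algebra P R'] [IsScalarTower A P R']
variable (J' : Ideal R')

/-- The restriction of a `P`-algebra map to the ideals. -/
def idealMap (φ : R →ₐ[P] R') (h : J.map φ ≤ J') : J →ₗ[P] J' where
  toFun j := ⟨φ j, h (Ideal.mem_map_of_mem _ j.2)⟩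
  map_add' x y := by ext; simp
  map_smul' r x := by ext; simp [Algebra.smul_def]

/-- Pushing derivations forward along a `P`-algebra map. -/
noncomputable def mapD (φ : R →ₐ[P] R') (h : J.map φ ≤ J') :
    Derivation A P J →ₗ[A] Derivation A P J' :=
  (LinearMap.compDer (R := A) (idealMap J J' φ h)).restrictScalars A

@[simp]
theorem mapD_apply (φ : R →ₐ[P] R') (h : J.map φ ≤ J') (D : Derivation A P J) (x : P) :
    (mapD J J' φ h D x : R') = φ (D x) := rfl

theorem liftD_mapD (hJ' : J' ^ 2 = ⊥) (φ : R →ₐ[P] R') (h : J.map φ ≤ J')
    (D : Derivation A P J) :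
    liftD J' hJ' (mapD J J' φ h D) = (φ.restrictScalars A).comp (liftD J hJ D) := by
  ext x; simp

theorem mapD_smul (φ : R →ₐ[P] R') (h : J.map φ ≤ J') (r : R) (D : Derivation A P J) :
    mapD J J' φ h (r • D) = φ r • mapD J J' φ h D := by
  ext x; simp

end map

end Groth.Agent.H1.SmGlue
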