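import Groth.Agent.H1.SmGlue.Twist

/-!
# Gluing a local lift along a faithfully flat cover

The algebraic core of "etale-local lifts along a square-zero thickening into a smooth algebraic
space glue".
-/

set_option autoImplicit false
universe u

open TensorProduct

namespace Groth.Agent.H1.SmGlue

theorem mem_range_of_tmul_eq_rTensor {A : Type u} [CommRing A] {M M' : Type u} [AddCommGroup M]
    [Module A M] [AddCommGroup M'] [Module A M'] (B : Type u) [CommRing B] [Algebra A B]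
    [Module.FaithfullyFlat A B] (d : M →ₗ[A] M') (c : M') (y : M ⊗[A] B)
    (h : c ⊗ₜ[A] (1 : B) = LinearMap.rTensor B d y) : c ∈ LinearMap.range d := by
  set π := (LinearMap.range d).mkQ with hπ
  have h1 : LinearMap.rTensor B π (c ⊗ₜ[A] (1 : B)) = 0 := by
    rw [h, ← LinearMap.comp_apply, ← LinearMap.rTensor_comp, hπ, LinearMap.range_mkQ_comp,
      LinearMap.rTensor_zero, LinearMap.zero_apply]
  rw [LinearMap.rTensor_tmul] at h1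
  have h2 : TensorProduct.mk A B _ 1 (π c) = 0 := by
    have := congr(TensorProduct.comm A _ B $h1)
    simpa using this
  have h3 := Module.FaithfullyFlat.tensorProduct_mk_injective (A := A) (B := B)
    (M' ⧸ LinearMap.range d) (h2.trans (map_zero _).symm)
  rwa [hπ, Submodule.mkQ_apply, Submodule.Quotient.mk_eq_zero] at h3

section cofaces

variable (A : Type u) [CommRing A] (P : Type u) [CommRing P] [Algebra A P]
variable (A₁ : Type u) [CommRing A₁] [Algebra A A₁] [Algebra P A₁] [IsScalarTower A P A₁]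

/-- first coface `A₁ → A₁ ⊗ A₁` -/
noncomputable abbrev p₁ : A₁ →ₐ[A] A₁ ⊗[A] A₁ := Algebra.TensorProduct.includeLeft
/-- second coface `A₁ → A₁ ⊗ A₁` -/
noncomputable abbrev p₂ : A₁ →ₐ[A] A₁ ⊗[A] A₁ := Algebra.TensorProduct.includeRight
/-- `x ⊗ y ↦ x ⊗ y ⊗ 1` -/
noncomputable abbrev q₁₂ : A₁ ⊗[A] A₁ →ₐ[A] (A₁ ⊗[A] A₁) ⊗[A] A₁ :=
  Algebra.TensorProduct.includeLeft
/-- `x ⊗ y ↦ x ⊗ 1 ⊗ y` -/
noncomputable abbrev q₁₃ : A₁ ⊗[A] A₁ →ₐ[A] (A₁ ⊗[A] A₁) ⊗[A] A₁ :=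
  Algebra.TensorProduct.map (p₁ A A₁) (AlgHom.id A A₁)
/-- `x ⊗ y ↦ 1 ⊗ x ⊗ y` -/
noncomputable abbrev q₂₃ : A₁ ⊗[A] A₁ →ₐ[A] (A₁ ⊗[A] A₁) ⊗[A] A₁ :=
  Algebra.TensorProduct.map (p₂ A A₁) (AlgHom.id A A₁)

/-- `P`-linear version of `p₁`. -/
noncomputable abbrev p₁P : A₁ →ₐ[P] A₁ ⊗[A] A₁ := Algebra.TensorProduct.includeLeft
/-- `P`-linear version of `q₁₂`. -/
noncomputable abbrev q₁₂P : A₁ ⊗[A] A₁ →ₐ[P] (A₁ ⊗[A] A₁) ⊗[A] A₁ :=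
  Algebra.TensorProduct.includeLeft
/-- `P`-linear version of `q₁₃`. -/
noncomputable abbrev q₁₃P : A₁ ⊗[A] A₁ →ₐ[P] (A₁ ⊗[A] A₁) ⊗[A] A₁ :=
  Algebra.TensorProduct.map (p₁P A P A₁) (AlgHom.id A A₁)

theorem bmap_R₂ : bmap A P (A₁ ⊗[A] A₁) = (p₁ A A₁).comp (bmap A P A₁) := by
  ext x; rfl

theorem bmap_R₃ :
    bmap A P ((A₁ ⊗[A] A₁) ⊗[A] A₁) = (q₁₂ A A₁).comp (bmap A P (A₁ ⊗[A] A₁)) := by
  ext x; rfl

theorem q₁₂_p₂ : (q₁₂ A A₁).comp (p₂ A A₁) = (q₂₃ A A₁).comp (p₁ A A₁) := by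
  ext x; simp

theorem q₁₃_p₂ : (q₁₃ A A₁).comp (p₂ A A₁) = (q₂₃ A A₁).comp (p₂ A A₁) := by
  ext x; simp

theorem q₁₃_p₁ : (q₁₃ A A₁).comp (p₁ A A₁) = (q₁₂ A A₁).comp (p₁ A A₁) := by
  ext x; simp

theorem q₁₃P_restrict : (q₁₃P A P A₁).restrictScalars A = q₁₃ A A₁ := by
  ext x <;> simp [Algebra.TensorProduct.one_def]

end cofaces

section main

variable {A : Type u} [CommRing A] (I : Ideal A) (hI : I ^ 2 = ⊥)
variable {P : Type u} [CommRing P] [Algebra A P]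
variable (E : PtRel A P) (hE : E.HasRef)
variable (A₁ : Type u) [CommRing A₁] [Algebra A A₁] [Algebra P A₁] [IsScalarTower A P A₁]

/-- the hypothesis on the cover: the two pullbacks of the chart lift agree modulo `I`. -/
def CoverHyp : Prop :=
  E.rel ((A₁ ⊗[A] A₁) ⧸ JJ I (A₁ ⊗[A] A₁))
    ((Ideal.Quotient.mkₐ A (JJ I (A₁ ⊗[A] A₁))).comp ((p₂ A A₁).comp (bmap A P A₁)))
    ((Ideal.Quotient.mkₐ A (JJ I (A₁ ⊗[A] A₁))).comp ((p₁ A A₁).comp (bmap A P A₁)))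

variable {I E A₁}

theorem twistHyp_p₂ (H : CoverHyp I E A₁) : TwistHyp I E (p₂ A A₁) := by
  unfold TwistHyp
  rw [bmap_R₂]
  exact H

theorem twistHyp_q₂₃ (H : CoverHyp I E A₁) : TwistHyp I E (q₂₃ A A₁) := by
  unfold TwistHyp
  have hle : JJ I (A₁ ⊗[A] A₁) ≤ (JJ I ((A₁ ⊗[A] A₁) ⊗[A] A₁)).comap (q₁₂ A A₁) :=
    Ideal.map_le_iff_le_comap.1 (JJ_map_le I (q₁₂ A A₁))
  have h1 := E.map (Ideal.quotientMapₐ (JJ I ((A₁ ⊗[A] A₁) ⊗[A] A₁)) (q₁₂ A A₁) hle) H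
  have e : ∀ s : P →ₐ[A] A₁ ⊗[A] A₁,
      (Ideal.quotientMapₐ (JJ I ((A₁ ⊗[A] A₁) ⊗[A] A₁)) (q₁₂ A A₁) hle).comp
        ((Ideal.Quotient.mkₐ A (JJ I (A₁ ⊗[A] A₁))).comp s) =
      (Ideal.Quotient.mkₐ A (JJ I ((A₁ ⊗[A] A₁) ⊗[A] A₁))).comp ((q₁₂ A A₁).comp s) := by
    intro s
    ext x
    simp
  rw [e, e] at h1
  rw [bmap_R₃, bmap_R₂]
  have e2 : (q₁₂ A A₁).comp ((p₂ A A₁).comp (bmap A P A₁)) =
      (q₂₃ A A₁).comp ((p₁ A A₁).comp (bmap A P A₁)) := by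
    rw [← AlgHom.comp_assoc, q₁₂_p₂, AlgHom.comp_assoc]
  rw [e2] at h1
  exact h1

/-- `P1 : M₁ → M₂` -/
noncomputable abbrev P1 (I : Ideal A) (P A₁ : Type u) [CommRing P] [Algebra A P] [CommRing A₁]
    [Algebra A A₁] [Algebra P A₁] [IsScalarTower A P A₁] :
    Derivation A P (JJ I A₁) →ₗ[A] Derivation A P (JJ I (A₁ ⊗[A] A₁)) :=
  mapD (JJ I A₁) (JJ I (A₁ ⊗[A] A₁)) (p₁P A P A₁) (JJ_map_le I (p₁ A A₁))

/-- `Q12 : M₂ → M₃` -/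
noncomputable abbrev Q12 (I : Ideal A) (P A₁ : Type u) [CommRing P] [Algebra A P] [CommRing A₁]
    [Algebra A A₁] [Algebra P A₁] [IsScalarTower A P A₁] :
    Derivation A P (JJ I (A₁ ⊗[A] A₁)) →ₗ[A] Derivation A P (JJ I ((A₁ ⊗[A] A₁) ⊗[A] A₁)) :=
  mapD (JJ I (A₁ ⊗[A] A₁)) (JJ I ((A₁ ⊗[A] A₁) ⊗[A] A₁)) (q₁₂P A P A₁) (JJ_map_le I (q₁₂ A A₁))

/-- `Q13 : M₂ → M₃` -/
noncomputable abbrev Q13 (I : Ideal A) (P A₁ : Type u) [CommRing P] [Algebra A P] [CommRing A₁]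
    [Algebra A A₁] [Algebra P A₁] [IsScalarTower A P A₁] :
    Derivation A P (JJ I (A₁ ⊗[A] A₁)) →ₗ[A] Derivation A P (JJ I ((A₁ ⊗[A] A₁) ⊗[A] A₁)) :=
  mapD (JJ I (A₁ ⊗[A] A₁)) (JJ I ((A₁ ⊗[A] A₁) ⊗[A] A₁)) (q₁₃P A P A₁) (by
    have := JJ_map_le I (q₁₃ A A₁)
    rwa [← q₁₃P_restrict A P A₁] at this)

theorem liftD_P1 (D : Derivation A P (JJ I A₁)) :
    liftD _ (JJ_sq I hI (A₁ ⊗[A] A₁)) (P1 I P A₁ D) =
      (p₁ A A₁).comp (liftD _ (JJ_sq I hI A₁) D) :=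
  liftD_mapD _ (JJ_sq I hI A₁) _ (JJ_sq I hI _) _ _ D

theorem liftD_Q12 (D : Derivation A P (JJ I (A₁ ⊗[A] A₁))) :
    liftD _ (JJ_sq I hI ((A₁ ⊗[A] A₁) ⊗[A] A₁)) (Q12 I P A₁ D) =
      (q₁₂ A A₁).comp (liftD _ (JJ_sq I hI (A₁ ⊗[A] A₁)) D) :=
  liftD_mapD _ (JJ_sq I hI _) _ (JJ_sq I hI _) _ _ D

theorem liftD_Q13 (D : Derivation A P (JJ I (A₁ ⊗[A] A₁))) :
    liftD _ (JJ_sq I hI ((A₁ ⊗[A] A₁) ⊗[A] A₁)) (Q13 I P A₁ D) =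
      (q₁₃ A A₁).comp (liftD _ (JJ_sq I hI (A₁ ⊗[A] A₁)) D) := by
  rw [← q₁₃P_restrict A P A₁]
  exact liftD_mapD _ (JJ_sq I hI _) _ (JJ_sq I hI _) _ _ D

/-- (F2a) `Φ₂₃ ∘ P1 = Q12 ∘ Φ₂`. -/
theorem twistΦ_P1 (H : CoverHyp I E A₁) (D : Derivation A P (JJ I A₁)) :
    twistΦ hI (twistHyp_q₂₃ H) (P1 I P A₁ D) = Q12 I P A₁ (twistΦ hI (twistHyp_p₂ H) D) := by
  refine twistΦ_eq hI _ _ ?_
  rw [liftD_Q12 hI, liftD_twistΦ, liftD_P1 hI]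
  have h := (twistLift_spec hI (twistHyp_p₂ H) D).map (q₁₂ A A₁) (JJ_map_le I (q₁₂ A A₁))
  rw [← bmap_R₃, ← AlgHom.comp_assoc, q₁₂_p₂, AlgHom.comp_assoc] at h
  exact h

/-- (F2) `T₂₃ ∘ P1 = Q12 ∘ T₂`. -/
theorem twistT_P1 (H : CoverHyp I E A₁) (D : Derivation A P (JJ I A₁)) :
    twistT hI (twistHyp_q₂₃ H) (P1 I P A₁ D) = Q12 I P A₁ (twistT hI (twistHyp_p₂ H) D) := by
  unfold twistT
  rw [map_sub, twistΦ_P1 hI H D]
  congr 1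
  have := twistΦ_P1 hI H (0 : Derivation A P (JJ I A₁))
  rw [map_zero] at this
  exact this

/-- (F3) the cocycle identity. -/
theorem cocycle (H : CoverHyp I E A₁) :
    twistT hI (twistHyp_q₂₃ H) (twistΦ hI (twistHyp_p₂ H) 0) =
      Q13 I P A₁ (twistΦ hI (twistHyp_p₂ H) 0) - Q12 I P A₁ (twistΦ hI (twistHyp_p₂ H) 0) := by
  set c := twistΦ hI (twistHyp_p₂ H) (0 : Derivation A P (JJ I A₁)) with hc
  have hw := twistLift_spec hI (twistHyp_p₂ H) (0 : Derivation A P (JJ I A₁))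
  rw [liftD_zero] at hw
  have hcw : liftD _ (JJ_sq I hI (A₁ ⊗[A] A₁)) c = twistLift hI (twistHyp_p₂ H) 0 :=
    liftD_twistΦ hI _ _
  unfold twistT
  congr 1
  · refine twistΦ_eq hI _ _ ?_
    refine ⟨liftD_cong _ _ _, ?_⟩
    rw [liftD_Q13 hI, hcw]
    have h1 := E.map (q₁₃ A A₁) hw.2
    have h2 := E.map (q₂₃ A A₁) hw.2
    rw [← AlgHom.comp_assoc, q₁₃_p₂, AlgHom.comp_assoc] at h1
    exact E.trans h1 (E.symm h2)
  · refine twistΦ_eq hI _ _ ?_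
    refine ⟨liftD_cong _ _ _, ?_⟩
    rw [liftD_Q12 hI, hcw, liftD_zero, bmap_R₂]
    have h1 := E.map (q₁₂ A A₁) hw.2
    rw [← AlgHom.comp_assoc, q₁₂_p₂, AlgHom.comp_assoc] at h1
    exact h1

theorem Q13_P1 (D : Derivation A P (JJ I A₁)) :
    Q13 I P A₁ (P1 I P A₁ D) = Q12 I P A₁ (P1 I P A₁ D) := by
  ext x
  simp

include hE in
/-- (Sq) the square relating `κ₁`, `κ₂`. -/
theorem sq_kappa (H : CoverHyp I E A₁) (y : Derivation A P (JJ I A₁) ⊗[A] A₁) :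
    Q13 I P A₁ (kappa I A₁ A₁ y) - twistL hI hE (twistHyp_q₂₃ H) (kappa I A₁ A₁ y) =
      kappa I (A₁ ⊗[A] A₁) A₁
        (LinearMap.rTensor A₁ (P1 I P A₁ - twistL hI hE (twistHyp_p₂ H)) y) := by
  induction y using TensorProduct.induction_on with
  | zero =>
    simp only [map_zero]
    exact sub_self (0 : Derivation A P (JJ I ((A₁ ⊗[A] A₁) ⊗[A] A₁)))
  | add y y' hy hy' =>
    rw [map_add, map_add, map_add, map_add, map_add, ← hy, ← hy']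
    abel
  | tmul D b =>
    have e1 : kappa I A₁ A₁ (D ⊗ₜ[A] b) = ((1 : A₁) ⊗ₜ[A] b : A₁ ⊗[A] A₁) • P1 I P A₁ D := rfl
    have e2 : ∀ D' : Derivation A P (JJ I (A₁ ⊗[A] A₁)),
        kappa I (A₁ ⊗[A] A₁) A₁ (D' ⊗ₜ[A] b) =
          ((1 : A₁ ⊗[A] A₁) ⊗ₜ[A] b : (A₁ ⊗[A] A₁) ⊗[A] A₁) • Q12 I P A₁ D' := fun _ => rfl
    rw [LinearMap.rTensor_tmul, e1, e2, twistL_apply, twistT_smul hI hE, mapD_smul, Q13_P1,
      twistT_P1 hI H, LinearMap.sub_apply, map_sub, twistL_apply, smul_sub]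
    congr 2

variable (I E A₁) in
include hI hE in
/-- **Gluing**: if the two pullbacks of the chart lift `P → A₁` to `A₁ ⊗ A₁` define the same
point modulo `I`, then the chart lift can be modified (modulo `I`) so that the two pullbacks define
the same point. -/
theorem exists_glued_lift [Module.FaithfullyFlat A A₁] [Module.Finite P Ω[P⁄A]]
    [Module.Projective P Ω[P⁄A]] (H : CoverHyp I E A₁) :
    ∃ g : P →ₐ[A] A₁, Cong (JJ I A₁) g (bmap A P A₁) ∧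
      E.rel (A₁ ⊗[A] A₁) ((p₁ A A₁).comp g) ((p₂ A A₁).comp g) := by
  set c := twistΦ hI (twistHyp_p₂ H) (0 : Derivation A P (JJ I A₁)) with hc
  obtain ⟨y, hy⟩ := kappa_surjective (P := P) I A₁ A₁ c
  set d := P1 I P A₁ - twistL hI hE (twistHyp_p₂ H) with hd
  have h1 : kappa I (A₁ ⊗[A] A₁) A₁ (c ⊗ₜ[A] (1 : A₁)) =
      kappa I (A₁ ⊗[A] A₁) A₁ (LinearMap.rTensor A₁ d y) := by
    rw [← sq_kappa hI hE H y, hy, twistL_apply, cocycle hI H, ← hc]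
    have e2 : kappa I (A₁ ⊗[A] A₁) A₁ (c ⊗ₜ[A] (1 : A₁)) =
        ((1 : A₁ ⊗[A] A₁) ⊗ₜ[A] (1 : A₁) : (A₁ ⊗[A] A₁) ⊗[A] A₁) • Q12 I P A₁ c := rfl
    rw [e2, ← Algebra.TensorProduct.one_def, one_smul]
    abel
  have h2 := kappa_injective (P := P) I (A₁ ⊗[A] A₁) A₁ h1
  obtain ⟨g₀, hg₀⟩ := mem_range_of_tmul_eq_rTensor A₁ d c y h2
  refine ⟨liftD _ (JJ_sq I hI A₁) g₀, liftD_cong _ _ _, ?_⟩
  have h3 : twistΦ hI (twistHyp_p₂ H) g₀ = P1 I P A₁ g₀ := by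
    have : twistT hI (twistHyp_p₂ H) g₀ = twistΦ hI (twistHyp_p₂ H) g₀ - c := rfl
    rw [hd, LinearMap.sub_apply, twistL_apply, this] at hg₀
    have h := sub_eq_iff_eq_add.1 hg₀
    rw [add_sub_cancel] at h
    exact h.symm
  have h4 := twistLift_spec hI (twistHyp_p₂ H) g₀
  rw [← liftD_twistΦ, h3, liftD_P1 hI] at h4
  exact h4.2

end main

end Groth.Agent.H1.SmGlue
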