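import Groth.Agent.H1.SmGlue.ChartRef
import Groth.Agent.H1.SmGlue.Main

/-!
# Descending the glued chart lift to a lift of the thickening
-/

set_option autoImplicit false
universe u
open CategoryTheory CategoryTheory.Limits AlgebraicGeometry Opposite AlgSp TensorProduct

namespace Groth.Agent.H1.SmGlue

open Groth.Agent.H53

variable {S : Scheme.{u}} {A : Type u} [CommRing A] (I : Ideal A) (str : Spec (.of A) ⟶ S)

section small

variable (R : Type u) [CommRing R] [Algebra A R]

theorem algebraMap_quot_quot :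
    (algebraMap (A ⧸ I) (R ⧸ JJ I R)).comp (Ideal.Quotient.mk I) = algebraMap A (R ⧸ JJ I R) := by
  ext a
  rfl

theorem smallMap_aux :
    Spec.map (CommRingCat.ofHom (algebraMap (A ⧸ I) (R ⧸ JJ I R))) ≫ (smallPt I str).hom =
      (ptR str (R ⧸ JJ I R)).hom := by
  change Spec.map (CommRingCat.ofHom (algebraMap (A ⧸ I) (R ⧸ JJ I R))) ≫
    Spec.map (CommRingCat.ofHom (Ideal.Quotient.mk I)) ≫ str =
      Spec.map (CommRingCat.ofHom (algebraMap A (R ⧸ JJ I R))) ≫ str
  rw [← Category.assoc, ← Spec.map_comp, ← CommRingCat.ofHom_comp, algebraMap_quot_quot]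

/-- `Spec (R ⧸ I R) ⟶ Spec (A ⧸ I)` over `S`. -/
noncomputable def smallMap : ptR str (R ⧸ JJ I R) ⟶ smallPt I str :=
  Over.homMk (Spec.map (CommRingCat.ofHom (algebraMap (A ⧸ I) (R ⧸ JJ I R))))
    (smallMap_aux I str R)

theorem smallMap_thickJ :
    smallMap I str R ≫ thickJ I str =
      ptMap str (Ideal.Quotient.mkₐ A (JJ I R)) ≫ strMap str R := by
  ext
  change Spec.map (CommRingCat.ofHom (algebraMap (A ⧸ I) (R ⧸ JJ I R))) ≫
    Spec.map (CommRingCat.ofHom (Ideal.Quotient.mk I)) =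
      Spec.map (CommRingCat.ofHom (Ideal.Quotient.mkₐ A (JJ I R)).toRingHom) ≫
        Spec.map (CommRingCat.ofHom (algebraMap A R))
  rw [← Spec.map_comp, ← Spec.map_comp, ← CommRingCat.ofHom_comp, ← CommRingCat.ofHom_comp,
    algebraMap_quot_quot, toRingHom_comp_algebraMap]

end small

variable {R R' : Type u} [CommRing R] [Algebra A R] [CommRing R'] [Algebra A R']

/-- The map induced on quotients by `I`. -/
noncomputable def qMap (φ : R →ₐ[A] R') : R ⧸ JJ I R →ₐ[A] R' ⧸ JJ I R' :=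
  Ideal.quotientMapₐ (JJ I R') φ (Ideal.map_le_iff_le_comap.1 (JJ_map_le I φ))

theorem qMap_comp_mk (φ : R →ₐ[A] R') :
    (qMap I φ).comp (Ideal.Quotient.mkₐ A (JJ I R)) = (Ideal.Quotient.mkₐ A (JJ I R')).comp φ := by
  ext x
  simp [qMap]

theorem qMap_smallMap (φ : R →ₐ[A] R') :
    ptMap str (qMap I φ) ≫ smallMap I str R = smallMap I str R' := by
  ext
  change Spec.map (CommRingCat.ofHom (qMap I φ).toRingHom) ≫
    Spec.map (CommRingCat.ofHom (algebraMap (A ⧸ I) (R ⧸ JJ I R))) =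
      Spec.map (CommRingCat.ofHom (algebraMap (A ⧸ I) (R' ⧸ JJ I R')))
  rw [← Spec.map_comp, ← CommRingCat.ofHom_comp]
  congr 2
  apply Ideal.Quotient.ringHom_ext
  ext a
  simp [qMap]

section pullback

variable (R : Type u) [CommRing R] [Algebra A R]

theorem isPushout_quot : Algebra.IsPushout A (A ⧸ I) R (R ⧸ JJ I R) := by
  constructor
  refine IsBaseChange.of_equiv
    (Algebra.TensorProduct.quotIdealMapEquivQuotTensor R I).symm.toLinearEquiv (fun x => ?_)
  rw [AlgEquiv.toLinearEquiv_apply, AlgEquiv.symm_apply_eq]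
  simp

theorem isPullback_small :
    IsPullback (Spec.map (CommRingCat.ofHom (algebraMap R (R ⧸ JJ I R))))
      (Spec.map (CommRingCat.ofHom (algebraMap (A ⧸ I) (R ⧸ JJ I R))))
      (Spec.map (CommRingCat.ofHom (algebraMap A R)))
      (Spec.map (CommRingCat.ofHom (algebraMap A (A ⧸ I)))) := by
  have := (isPushout_quot I R).symm
  exact isPullback_SpecMap_of_isPushout _ _ _ _
    (CommRingCat.isPushout_of_isPushout A R (A ⧸ I) (R ⧸ JJ I R))

end pullback

section descend

variable (hI : I ^ 2 = ⊥)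
variable {X' : Sp S} (f' : X' ⟶ (yon S).obj (bigPt str))
  (top' : (yon S).obj (smallPt I str) ⟶ X')
variable {P : Type u} [CommRing P] [Algebra A P] [Module.Finite P Ω[P⁄A]]
  [Module.Projective P Ω[P⁄A]]
  (a : (yon S).obj (ptR str P) ⟶ X') (ha : RepWith @Etale a)
  (haf : a ≫ f' = (yon S).map (strMap str P))
variable (A₁ : Type u) [CommRing A₁] [Algebra A A₁] [Algebra P A₁] [IsScalarTower A P A₁]
  [Module.FaithfullyFlat A A₁]

include hI ha haf in
theorem exists_lift_of_chart
    (h1 : Flat (Spec.map (CommRingCat.ofHom (algebraMap A A₁))))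
    (h2 : LocallyOfFinitePresentation (Spec.map (CommRingCat.ofHom (algebraMap A A₁))))
    (h3 : Surjective (Spec.map (CommRingCat.ofHom (algebraMap A A₁))))
    (compat : ptOf str a ((Ideal.Quotient.mkₐ A (JJ I A₁)).comp (bmap A P A₁)) =
      (yon S).map (smallMap I str A₁) ≫ top') :
    ∃ l : (yon S).obj (bigPt str) ⟶ X',
      (yon S).map (thickJ I str) ≫ l = top' ∧ l ≫ f' = 𝟙 _ := by
  have hE := chartRel_hasRef str f' a ha haf
  have key : ∀ φ : A₁ →ₐ[A] A₁ ⊗[A] A₁,
      ptOf str a ((Ideal.Quotient.mkₐ A (JJ I (A₁ ⊗[A] A₁))).comp (φ.comp (bmap A P A₁))) =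
        (yon S).map (smallMap I str (A₁ ⊗[A] A₁)) ≫ top' := by
    intro φ
    rw [← AlgHom.comp_assoc, ← qMap_comp_mk, AlgHom.comp_assoc, ptOf_comp, compat,
      ← Category.assoc, ← Functor.map_comp, qMap_smallMap]
  have H : CoverHyp I (chartRel str f' a ha haf) A₁ :=
    (key (p₂ A A₁)).trans (key (p₁ A A₁)).symm
  obtain ⟨g, hg1, hg2⟩ := exists_glued_lift I hI (chartRel str f' a ha haf) hE A₁ H
  replace hg2 : ptOf str a ((p₁ A A₁).comp g) = ptOf str a ((p₂ A A₁).comp g) := hg2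
  -- descent along the cover `Spec A₁ ⟶ Spec A`
  have hcov := cover_of_family (T' := bigPt str) (ι := PUnit.{u + 1}) (fun _ => ptR str A₁)
    (fun _ => strMap str A₁) (fun _ => h1) (fun _ => h2) (fun z => ⟨PUnit.unit, h3.surj z⟩)
  have hm : ∀ (W : Over S) (α β : PUnit.{u + 1}) (g₁ g₂ : W ⟶ ptR str A₁),
      (yon S).map g₁ ≫ (yon S).map (strMap str A₁) = (yon S).map g₂ ≫ (yon S).map (strMap str A₁) →
      (yon S).map g₁ ≫ ptOf str a g = (yon S).map g₂ ≫ ptOf str a g := by
    intro W _ _ g₁ g₂ hg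
    have hg' : g₁ ≫ strMap str A₁ = g₂ ≫ strMap str A₁ :=
      (yon S).map_injective (by rw [Functor.map_comp, Functor.map_comp]; exact hg)
    refine yon_hom_ext_of_affine _ _ fun Z z hZ => ?_
    obtain ⟨algΓ, ιS, hιS1, hιS2⟩ := exists_alg str Z (z ≫ g₁ ≫ strMap str A₁) Γ(Z.left, ⊤)
      Z.left.isoSpec.inv
    have hιSiso : IsIso ιS := by
      have : IsIso ((Over.forget S).map ιS) := by
        change IsIso ιS.left
        rw [hιS1]
        infer_instance
      exact isIso_of_reflects_iso ιS (Over.forget S)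
    rw [← cancel_epi ((yon S).map ιS)]
    obtain ⟨φ₁, hφ₁⟩ := exists_ptMap str (ιS ≫ z ≫ g₁) (by
      rw [Category.assoc, Category.assoc, hιS2])
    obtain ⟨φ₂, hφ₂⟩ := exists_ptMap str (ιS ≫ z ≫ g₂) (by
      rw [Category.assoc, Category.assoc, ← hg', hιS2])
    have e1 : (Algebra.TensorProduct.productMap φ₁ φ₂).comp (p₁ A A₁) = φ₁ :=
      Algebra.TensorProduct.productMap_left _ _
    have e2 : (Algebra.TensorProduct.productMap φ₁ φ₂).comp (p₂ A A₁) = φ₂ :=
      Algebra.TensorProduct.productMap_right _ _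
    have k1 : (yon S).map (ιS ≫ z ≫ g₁) ≫ ptOf str a g =
        (yon S).map (ptMap str (Algebra.TensorProduct.productMap φ₁ φ₂)) ≫
          ptOf str a ((p₁ A A₁).comp g) := by
      rw [← hφ₁, ← ptOf_comp, ← ptOf_comp, ← AlgHom.comp_assoc, e1]
    have k2 : (yon S).map (ιS ≫ z ≫ g₂) ≫ ptOf str a g =
        (yon S).map (ptMap str (Algebra.TensorProduct.productMap φ₁ φ₂)) ≫
          ptOf str a ((p₂ A A₁).comp g) := by
      rw [← hφ₂, ← ptOf_comp, ← ptOf_comp, ← AlgHom.comp_assoc, e2]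
    simp only [← Category.assoc, ← Functor.map_comp]
    simp only [Category.assoc]
    rw [k1, k2, hg2]
  obtain ⟨L, hL⟩ := desc_of_family (fun _ : PUnit.{u + 1} => ptR str A₁)
    (fun _ => (yon S).map (strMap str A₁)) hcov (fun _ => ptOf str a g) hm
  replace hL := hL PUnit.unit
  refine ⟨L, ?_, ?_⟩
  · have sqp := isPullback_small I A₁
    have h1' : Flat (Spec.map (CommRingCat.ofHom (algebraMap (A ⧸ I) (A₁ ⧸ JJ I A₁)))) :=
      MorphismProperty.of_isPullback (P := @Flat) sqp h1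
    have h2' : LocallyOfFinitePresentation
        (Spec.map (CommRingCat.ofHom (algebraMap (A ⧸ I) (A₁ ⧸ JJ I A₁)))) :=
      MorphismProperty.of_isPullback (P := @LocallyOfFinitePresentation) sqp h2
    have h3' : Surjective (Spec.map (CommRingCat.ofHom (algebraMap (A ⧸ I) (A₁ ⧸ JJ I A₁)))) :=
      MorphismProperty.of_isPullback (P := @Surjective) sqp h3
    have hcov' := cover_of_family (T' := smallPt I str) (ι := PUnit.{u + 1})
      (fun _ => ptR str (A₁ ⧸ JJ I A₁)) (fun _ => smallMap I str A₁) (fun _ => h1')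
      (fun _ => h2') (fun z => ⟨PUnit.unit, h3'.surj z⟩)
    refine hom_ext_of_family _ _ hcov' _ _ fun _ => ?_
    rw [← Category.assoc, ← Functor.map_comp, smallMap_thickJ, Functor.map_comp, Category.assoc,
      hL, ← ptOf_comp, cong_iff_mk_comp_eq.1 hg1, compat]
  · refine hom_ext_of_family _ _ hcov _ _ fun _ => ?_
    rw [← Category.assoc, hL, ptOf_f' str f' a haf, Category.comp_id]

end descend

end Groth.Agent.H1.SmGlue
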