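import Groth.Agent.H1.SmGlue.Datum
import Groth.Agent.H53.SmoothThickLift

/-!
# Local chart data from the etale-local lifting theorem
-/

set_option autoImplicit false
universe u
open CategoryTheory CategoryTheory.Limits AlgebraicGeometry Opposite AlgSp TensorProduct

namespace Groth.Agent.H1.SmGlue

open Groth.Agent.H53

variable {S : Scheme.{u}} {A : Type u} [CommRing A] {I : Ideal A} {str : Spec (.of A) ⟶ S}
variable {X' : Sp S} {top' : (yon S).obj (smallPt I str) ⟶ X'}
variable {U' : Over S} {α : (yon S).obj U' ⟶ X'} {u' : U' ⟶ bigPt str}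
variable (hI : I ^ 2 = ⊥) (hX' : IsAlgSpace X') (f' : X' ⟶ (yon S).obj (bigPt str))
  (hf' : LocP @Smooth f') (htop : top' ≫ f' = (yon S).map (thickJ I str))
  (hα : RepWith @Etale α) (hα' : RepWith @Surjective α) (hu' : α ≫ f' = (yon S).map u')

set_option maxHeartbeats 1600000 in
include hI hX' hf' htop hα hα' hu' in
theorem exists_datum (t₀ : ↥(Spec (.of A))) :
    ∃ D : Datum I str top' α u', t₀ ∈ Set.range D.π := by
  have hthick : IsThickMor ((yon S).map (thickJ I str)) :=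
    (isThickMor_yon_map_iff _).2
      ⟨IsClosedImmersion.spec_of_surjective _ Ideal.Quotient.mk_surjective,
        ⟨Groth.Agent.H8.specMap_quotientMk_surjective I hI⟩⟩
  obtain ⟨V, e, ℓ, he, ⟨v, hv⟩, hℓ, hcompat⟩ := smooth_thick_local_lift hX'
    (IsAlgSpace.yon_obj _) (IsAlgSpace.yon_obj _) f' hf' ((yon S).map (thickJ I str)) hthick top'
    (𝟙 _) (by rw [Category.comp_id, htop]) (Points.ofScheme (bigPt str) t₀)
  obtain ⟨π₀, rfl⟩ := (yon S).map_surjective e
  have hπ₀ : Etale π₀.left := (repWith_yon_map_iff _ _).1 he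
  rw [Category.comp_id] at hℓ
  have hvt : π₀.left v = t₀ := by
    have h1 : Points.ofPt ((yon S).map π₀ ≫ 𝟙 _) v = Points.ofScheme (bigPt str) t₀ := by
      rw [Category.comp_id]; exact hv
    rw [ofPt_yon_map_comp] at h1
    have h2 := congrArg (Points.toScheme (bigPt str)) h1
    rwa [Points.toScheme_ofScheme, Points.toScheme_ofScheme] at h2
  -- lift to the atlas
  obtain ⟨W, w₁, w₂, sqW⟩ := exists_pullback_yon ℓ α hα.rep
  have hw₁e : Etale w₁.left := prop_of_isPullback_yon sqW hα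
  have hw₁s : Surjective w₁.left := prop_of_isPullback_yon sqW hα'
  obtain ⟨w, hw⟩ := hw₁s.surj v
  have hwu : w₂ ≫ u' = w₁ ≫ π₀ := by
    apply (yon S).map_injective
    rw [Functor.map_comp, Functor.map_comp, ← hu', ← hℓ, ← Category.assoc, ← Category.assoc, sqW.w]
  obtain ⟨Pc, o, ho, huo, -⟩ := Scheme.exists_affine_mem_range_and_range_subset
    (X := U'.left) (x := w₂.left w) (U := ⊤) trivial
  obtain ⟨Ac, ω, hω, hwω, hωsub⟩ := Scheme.exists_affine_mem_range_and_range_subset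
    (X := W.left) (x := w) (U := w₂.left ⁻¹ᵁ o.opensRange) huo
  have hrange : Set.range (ω ≫ w₂.left) ⊆ Set.range o := by
    rintro _ ⟨y, rfl⟩
    exact hωsub ⟨y, rfl⟩
  let lam : Spec Ac ⟶ Spec Pc := IsOpenImmersion.lift o (ω ≫ w₂.left) hrange
  have hlam : lam ≫ o = ω ≫ w₂.left := IsOpenImmersion.lift_fac _ _ _
  have hwl : w₂.left ≫ u'.left = w₁.left ≫ π₀.left := congrArg (fun k => k.left) hwu
  refine ⟨⟨Pc, Ac, o, ω ≫ w₁.left ≫ π₀.left, lam, inferInstance, inferInstance, ?_, ?_⟩, ?_⟩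
  · rw [← Category.assoc, hlam, Category.assoc, hwl]
  · intro W₀ g₁ g₂ g₃ h1 h2
    have hγl : (g₂ ≫ ω) ≫ w₂.left = g₃.left := by
      rw [h2, Category.assoc, ← hlam]
    have hγw : (g₂ ≫ ω) ≫ W.hom = W₀.hom := by
      rw [← Over.w w₂, ← Category.assoc, hγl, Over.w g₃]
    let γ : W₀ ⟶ W := Over.homMk (g₂ ≫ ω) hγw
    have hγ₂ : γ ≫ w₂ = g₃ := by
      ext
      exact hγl
    have hγ₁ : g₁ ≫ thickJ I str = (γ ≫ w₁) ≫ π₀ := by
      ext
      change g₁.left ≫ Spec.map (CommRingCat.ofHom (Ideal.Quotient.mk I)) =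
        ((g₂ ≫ ω) ≫ w₁.left) ≫ π₀.left
      rw [h1]
      simp only [Category.assoc]
    have PB := IsPullback.of_hasPullback ((yon S).map (thickJ I str)) ((yon S).map π₀)
    have hc := hcompat _ _ _ PB
    have hd : (yon S).map g₁ ≫ (yon S).map (thickJ I str) =
        (yon S).map (γ ≫ w₁) ≫ (yon S).map π₀ := by
      rw [← Functor.map_comp, ← Functor.map_comp, hγ₁]
    calc (yon S).map g₃ ≫ α = (yon S).map γ ≫ (yon S).map w₂ ≫ α := by
          rw [← hγ₂, Functor.map_comp, Category.assoc]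
      _ = (yon S).map (γ ≫ w₁) ≫ ℓ := by
          rw [← sqW.w, Functor.map_comp, Category.assoc]
      _ = pullback.lift _ _ hd ≫ pullback.snd _ _ ≫ ℓ := by
          rw [← Category.assoc, pullback.lift_snd]
      _ = pullback.lift _ _ hd ≫ pullback.fst _ _ ≫ top' := by rw [hc]
      _ = (yon S).map g₁ ≫ top' := by rw [← Category.assoc, pullback.lift_fst]
  · obtain ⟨y, rfl⟩ := hwω
    refine ⟨y, ?_⟩
    change π₀.left (w₁.left (ω y)) = t₀
    rw [hw, hvt]

omit hα hα' hu' in
include hI hX' hf' htop in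
/-- **Lifting over a local ring**: a smooth morphism from an algebraic space to `Spec A`, `A` a
local ring, has the infinitesimal lifting property for `Spec (A ⧸ I) ⟶ Spec A`. -/
theorem exists_lift_of_isLocalRing [IsLocalRing A] :
    ∃ l : (yon S).obj (bigPt str) ⟶ X',
      (yon S).map (thickJ I str) ≫ l = top' ∧ l ≫ f' = 𝟙 _ := by
  obtain ⟨U', α, hα, hα'⟩ := hX'.atlas
  obtain ⟨u', hu'⟩ := (yon S).map_surjective (α ≫ f')
  obtain ⟨D, ⟨y, hy⟩⟩ := exists_datum hI hX' f' hf' htop hα hα' hu'.symm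
    (IsLocalRing.closedPoint A)
  refine D.exists_lift hI f' hf' hα hu'.symm ⟨fun z => ?_⟩
  have := D.hπ
  have hopen : IsOpen (Set.range D.π) := D.π.isOpenMap.isOpen_range
  have hspec : (z : PrimeSpectrum A) ⤳ IsLocalRing.closedPoint A :=
    IsLocalRing.specializes_closedPoint z
  exact hspec.mem_open hopen ⟨y, hy⟩

end Groth.Agent.H1.SmGlue
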