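import Groth.Agent.H1.SmGlue.LocalDatum
import Groth.Agent.H53.LocalST
import Groth.Agent.H49.AlgSpRep

/-!
# Smooth morphisms of algebraic spaces lift along square-zero surjections of local rings
-/

set_option autoImplicit false
universe u
open CategoryTheory CategoryTheory.Limits AlgebraicGeometry Opposite AlgSp

namespace Groth.Agent.H1.SmGlue

open Groth.Agent.H53

variable {S : Scheme.{u}}

section iso

variable {B' B : Type u} [CommRing B'] [CommRing B] (π : B' →+* B)
  (hπ : Function.Surjective π) (s : Spec (.of B') ⟶ S)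

/-- the ring isomorphism `B' ⧸ ker π ≃ B` as a map -/
noncomputable abbrev kerQ : B' ⧸ RingHom.ker π →+* B := RingHom.kerLift π

theorem kerQ_comp_mk : (kerQ π).comp (Ideal.Quotient.mk (RingHom.ker π)) = π := by
  ext x; rfl

include hπ in
theorem isIso_specMap_kerQ : IsIso (Spec.map (CommRingCat.ofHom (kerQ π))) := by
  have : IsIso (CommRingCat.ofHom (kerQ π)) := by
    have : kerQ π = (RingHom.quotientKerEquivOfSurjective hπ).toRingHom := by
      ext x; rfl
    rw [this]
    exact inferInstanceAs (IsIso (RingHom.quotientKerEquivOfSurjective hπ).toCommRingCatIso.hom)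
  infer_instance

theorem epsS_aux : Spec.map (CommRingCat.ofHom (kerQ π)) ≫ (smallPt (RingHom.ker π) s).hom =
    (Over.mk (Spec.map (CommRingCat.ofHom π) ≫ s)).hom := by
  change Spec.map (CommRingCat.ofHom (kerQ π)) ≫
    Spec.map (CommRingCat.ofHom (Ideal.Quotient.mk (RingHom.ker π))) ≫ s =
      Spec.map (CommRingCat.ofHom π) ≫ s
  rw [← Category.assoc, ← Spec.map_comp, ← CommRingCat.ofHom_comp, kerQ_comp_mk]

/-- `Spec B ⟶ Spec (B' ⧸ ker π)` over `S`. -/
noncomputable def epsS : Over.mk (Spec.map (CommRingCat.ofHom π) ≫ s) ⟶ smallPt (RingHom.ker π) s :=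
  Over.homMk (Spec.map (CommRingCat.ofHom (kerQ π))) (epsS_aux π s)

include hπ in
theorem isIso_epsS : IsIso (epsS π s) := by
  have : IsIso ((Over.forget S).map (epsS π s)) := isIso_specMap_kerQ π hπ
  exact isIso_of_reflects_iso (epsS π s) (Over.forget S)

theorem epsS_thickJ : epsS π s ≫ thickJ (RingHom.ker π) s =
    (Over.homMk (Spec.map (CommRingCat.ofHom π)) :
      Over.mk (Spec.map (CommRingCat.ofHom π) ≫ s) ⟶ Over.mk s) := by
  ext
  change Spec.map (CommRingCat.ofHom (kerQ π)) ≫
    Spec.map (CommRingCat.ofHom (Ideal.Quotient.mk (RingHom.ker π))) = Spec.map (CommRingCat.ofHom π)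
  rw [← Spec.map_comp, ← CommRingCat.ofHom_comp, kerQ_comp_mk]

end iso

/-- **Lifting for smooth morphisms over local rings.** Let `f : X ⟶ Y` be a smooth morphism of
algebraic spaces and `π : B' → B` a surjection of rings with square-zero kernel, `B'` local.  Then
every commutative square from `Spec B ⟶ Spec B'` to `f` has a diagonal. -/
theorem exists_lift_of_smooth_of_isLocalRing {X Y : Sp S} (hX : IsAlgSpace X) (hY : IsAlgSpace Y)
    (f : X ⟶ Y) (hf : LocP @Smooth f) (B' B : Type u) [CommRing B'] [CommRing B] [IsLocalRing B']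
    (π : B' →+* B) (hπ : Function.Surjective π) (hker : RingHom.ker π ^ 2 = ⊥)
    (s : Spec (CommRingCat.of B') ⟶ S)
    (α : (yon S).obj (Over.mk (Spec.map (CommRingCat.ofHom π) ≫ s)) ⟶ X)
    (β : (yon S).obj (Over.mk s) ⟶ Y)
    (comm : α ≫ f = (yon S).map (Over.homMk (Spec.map (CommRingCat.ofHom π)) :
      Over.mk (Spec.map (CommRingCat.ofHom π) ≫ s) ⟶ Over.mk s) ≫ β) :
    ∃ γ : (yon S).obj (Over.mk s) ⟶ X,
      (yon S).map (Over.homMk (Spec.map (CommRingCat.ofHom π)) :
        Over.mk (Spec.map (CommRingCat.ofHom π) ≫ s) ⟶ Over.mk s) ≫ γ = α ∧ γ ≫ f = β := by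
  have hiso := isIso_epsS π hπ s
  have PB := IsPullback.of_hasPullback f β
  have hX' : IsAlgSpace (pullback f β) :=
    Groth.Agent.H49.isAlgSpace_of_isPullback PB hY.diag hX (IsAlgSpace.yon_obj _)
  have hf' : LocP @Smooth (pullback.snd f β) :=
    locP_smooth_of_isPullback hX hY (IsAlgSpace.yon_obj _) PB hf
  have e1 : inv (epsS π s) ≫ (Over.homMk (Spec.map (CommRingCat.ofHom π)) :
      Over.mk (Spec.map (CommRingCat.ofHom π) ≫ s) ⟶ Over.mk s) = thickJ (RingHom.ker π) s := by
    rw [IsIso.inv_comp_eq, epsS_thickJ]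
  have hc : ((yon S).map (inv (epsS π s)) ≫ α) ≫ f =
      (yon S).map (thickJ (RingHom.ker π) s) ≫ β := by
    rw [Category.assoc, comm, ← Category.assoc, ← Functor.map_comp, e1]
  obtain ⟨l, hl1, hl2⟩ := exists_lift_of_isLocalRing (I := RingHom.ker π) (str := s)
    (top' := pullback.lift _ _ hc) hker hX' (pullback.snd f β) hf' (pullback.lift_snd _ _ hc)
  refine ⟨l ≫ pullback.fst f β, ?_, ?_⟩
  · rw [← epsS_thickJ, Functor.map_comp, Category.assoc, ← Category.assoc _ l, hl1,
      pullback.lift_fst, ← Category.assoc, ← Functor.map_comp, IsIso.hom_inv_id,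
      CategoryTheory.Functor.map_id, Category.id_comp]
  · rw [Category.assoc, pullback.condition, ← Category.assoc, hl2, Category.id_comp]

end Groth.Agent.H1.SmGlue
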