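import Groth.Agent.H53.Inf
import Groth.Agent.H53.FormalEtale

/-!
# Dictionary between `A`-algebras and schemes over `S` lying over `Spec A`
-/

set_option autoImplicit false
universe u
open CategoryTheory CategoryTheory.Limits AlgebraicGeometry Opposite AlgSp

namespace Groth.Agent.H1.SmGlue

variable {S : Scheme.{u}} {A : Type u} [CommRing A] (str : Spec (.of A) ⟶ S)

/-- `Spec R` over `S`, for an `A`-algebra `R`. -/
noncomputable abbrev ptR (R : Type u) [CommRing R] [Algebra A R] : Over S :=
  Over.mk (Spec.map (CommRingCat.ofHom (algebraMap A R)) ≫ str)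

/-- The structure morphism `Spec R ⟶ Spec A` over `S`. -/
noncomputable abbrev strMap (R : Type u) [CommRing R] [Algebra A R] :
    ptR str R ⟶ Groth.Agent.H53.bigPt str :=
  Over.homMk (Spec.map (CommRingCat.ofHom (algebraMap A R))) rfl

variable {R R' R'' : Type u} [CommRing R] [Algebra A R] [CommRing R'] [Algebra A R']
  [CommRing R''] [Algebra A R'']

omit [CommRing R''] [Algebra A R''] in
theorem toRingHom_comp_algebraMap (φ : R →ₐ[A] R') :
    φ.toRingHom.comp (algebraMap A R) = algebraMap A R' := RingHom.ext φ.commutes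

/-- The morphism `Spec R' ⟶ Spec R` over `S` of an `A`-algebra map `R → R'`. -/
noncomputable def ptMap (φ : R →ₐ[A] R') : ptR str R' ⟶ ptR str R :=
  Over.homMk (Spec.map (CommRingCat.ofHom φ.toRingHom)) (by
    change Spec.map (CommRingCat.ofHom φ.toRingHom) ≫
      Spec.map (CommRingCat.ofHom (algebraMap A R)) ≫ str =
        Spec.map (CommRingCat.ofHom (algebraMap A R')) ≫ str
    rw [← Category.assoc, ← Spec.map_comp, ← CommRingCat.ofHom_comp, toRingHom_comp_algebraMap])

@[simp]
theorem ptMap_left (φ : R →ₐ[A] R') :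
    (ptMap str φ).left = Spec.map (CommRingCat.ofHom φ.toRingHom) := rfl

theorem ptMap_comp (φ : R →ₐ[A] R') (ψ : R' →ₐ[A] R'') :
    ptMap str (ψ.comp φ) = ptMap str ψ ≫ ptMap str φ := by
  ext
  change Spec.map (CommRingCat.ofHom (ψ.comp φ).toRingHom) =
    Spec.map (CommRingCat.ofHom ψ.toRingHom) ≫ Spec.map (CommRingCat.ofHom φ.toRingHom)
  rw [← Spec.map_comp, ← CommRingCat.ofHom_comp]
  rfl

theorem ptMap_strMap (φ : R →ₐ[A] R') : ptMap str φ ≫ strMap str R = strMap str R' := by
  ext
  change Spec.map (CommRingCat.ofHom φ.toRingHom) ≫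
      Spec.map (CommRingCat.ofHom (algebraMap A R)) = Spec.map (CommRingCat.ofHom (algebraMap A R'))
  rw [← Spec.map_comp, ← CommRingCat.ofHom_comp, toRingHom_comp_algebraMap]

theorem ptMap_injective : Function.Injective (ptMap str : (R →ₐ[A] R') → _) := by
  intro φ ψ h
  have h1 : Spec.map (CommRingCat.ofHom φ.toRingHom) = Spec.map (CommRingCat.ofHom ψ.toRingHom) :=
    congrArg (fun k => k.left) h
  have h2 := Spec.map_injective h1
  have h3 : φ.toRingHom = ψ.toRingHom := congrArg CommRingCat.Hom.hom h2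
  exact AlgHom.coe_ringHom_injective h3

/-- Every morphism `Spec R' ⟶ Spec R` over `Spec A` comes from an `A`-algebra map. -/
theorem exists_ptMap (g : ptR str R' ⟶ ptR str R) (hg : g ≫ strMap str R = strMap str R') :
    ∃ φ : R →ₐ[A] R', ptMap str φ = g := by
  have h1 : g.left ≫ Spec.map (CommRingCat.ofHom (algebraMap A R)) =
      Spec.map (CommRingCat.ofHom (algebraMap A R')) := congrArg (fun k => k.left) hg
  let φ₀ : R →+* R' := (Spec.preimage g.left).hom
  have hφ₀ : Spec.map (CommRingCat.ofHom φ₀) = g.left := Spec.map_preimage g.left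
  have h2 : φ₀.comp (algebraMap A R) = algebraMap A R' := by
    rw [← hφ₀, ← Spec.map_comp, ← CommRingCat.ofHom_comp] at h1
    exact congrArg CommRingCat.Hom.hom (Spec.map_injective h1)
  refine ⟨{ φ₀ with commutes' := fun a => congr($h2 a) }, ?_⟩
  ext
  exact hφ₀

/-- An affine scheme mapping to a scheme over `Spec A` is of the form `ptR`. -/
theorem exists_alg (W : Over S) (w : W ⟶ Groth.Agent.H53.bigPt str) (Q : Type u) [CommRing Q]
    (ι : Spec (.of Q) ⟶ W.left) :
    ∃ (_ : Algebra A Q) (ιS : ptR str Q ⟶ W), ιS.left = ι ∧ ιS ≫ w = strMap str Q := by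
  let _ : Algebra A Q := (Spec.preimage (ι ≫ w.left)).hom.toAlgebra
  have h1 : Spec.map (CommRingCat.ofHom (algebraMap A Q)) = ι ≫ w.left :=
    Spec.map_preimage (ι ≫ w.left)
  have h2 : ι ≫ W.hom = (ptR str Q).hom := by
    change ι ≫ W.hom = Spec.map (CommRingCat.ofHom (algebraMap A Q)) ≫ str
    rw [h1, Category.assoc]
    congr 1
    exact (Over.w w).symm
  refine ⟨inferInstance, Over.homMk ι h2, rfl, ?_⟩
  ext
  exact h1.symm

end Groth.Agent.H1.SmGlue
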