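import Groth.Agent.H1.SmGlue.Rel
import Groth.Agent.H1.SmGlue.BaseChange

/-!
# Twisted transport of derivations along a ring map that changes the chart lift

Let `R`, `R'` be `P`-algebras (towers over `A`), `ψ : R →ₐ[A] R'` an `A`-algebra map (not
necessarily `P`-linear) such that `ψ ∘ b_R` and `b_{R'}` define the same point modulo `I R'`.  Then a
lift `s` of `b_R` gives the lift `ψ ∘ s` of `ψ ∘ b_R`, which transports to a lift of `b_{R'}`.  In
terms of derivations this is an affine map whose linear part `twistT` is `ψ`-semilinear.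
-/

set_option autoImplicit false
universe u

open TensorProduct

namespace Groth.Agent.H1.SmGlue

variable {A : Type u} [CommRing A] (I : Ideal A) (hI : I ^ 2 = ⊥)
variable {P : Type u} [CommRing P] [Algebra A P]
variable (E : PtRel A P) (hE : E.HasRef)
variable {R : Type u} [CommRing R] [Algebra A R] [Algebra P R] [IsScalarTower A P R]
variable {R' : Type u} [CommRing R'] [Algebra A R'] [Algebra P R'] [IsScalarTower A P R']
variable (ψ : R →ₐ[A] R')

/-- The hypothesis: `ψ ∘ b_R` and `b_{R'}` are the same point modulo `I R'`. -/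
def TwistHyp : Prop :=
  E.rel (R' ⧸ JJ I R') ((Ideal.Quotient.mkₐ A (JJ I R')).comp (ψ.comp (bmap A P R)))
    ((Ideal.Quotient.mkₐ A (JJ I R')).comp (bmap A P R'))

variable {I E ψ}

omit [Algebra P R'] [IsScalarTower A P R'] in
theorem cong_comp_liftD (D : Derivation A P (JJ I R)) :
    Cong (JJ I R') (ψ.comp (liftD (JJ I R) (JJ_sq I hI R) D)) (ψ.comp (bmap A P R)) :=
  (liftD_cong _ _ D).comp ψ (JJ_map_le I ψ)

theorem exists_twistLift (H : TwistHyp I E ψ) (D : Derivation A P (JJ I R)) :
    ∃ θ, IsTrans E (JJ I R') (bmap A P R') (ψ.comp (liftD (JJ I R) (JJ_sq I hI R) D)) θ :=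
  IsTrans.exists (JJ_sq I hI R') H (cong_comp_liftD hI D)

/-- The transported lift. -/
noncomputable def twistLift (H : TwistHyp I E ψ) (D : Derivation A P (JJ I R)) : P →ₐ[A] R' :=
  Classical.choose (exists_twistLift hI H D)

theorem twistLift_spec (H : TwistHyp I E ψ) (D : Derivation A P (JJ I R)) :
    IsTrans E (JJ I R') (bmap A P R') (ψ.comp (liftD (JJ I R) (JJ_sq I hI R) D))
      (twistLift hI H D) :=
  Classical.choose_spec (exists_twistLift hI H D)

theorem twistLift_eq (H : TwistHyp I E ψ) (D : Derivation A P (JJ I R)) {θ : P →ₐ[A] R'}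
    (hθ : IsTrans E (JJ I R') (bmap A P R') (ψ.comp (liftD (JJ I R) (JJ_sq I hI R) D)) θ) :
    twistLift hI H D = θ :=
  (twistLift_spec hI H D).unique (JJ_sq I hI R') hθ

/-- The transported derivation (affine in `D`). -/
noncomputable def twistΦ (H : TwistHyp I E ψ) (D : Derivation A P (JJ I R)) :
    Derivation A P (JJ I R') :=
  derL (JJ I R') (JJ_sq I hI R') (twistLift hI H D) (twistLift_spec hI H D).1

theorem liftD_twistΦ (H : TwistHyp I E ψ) (D : Derivation A P (JJ I R)) :
    liftD (JJ I R') (JJ_sq I hI R') (twistΦ hI H D) = twistLift hI H D := by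
  simp [twistΦ]

theorem twistΦ_eq (H : TwistHyp I E ψ) (D : Derivation A P (JJ I R))
    {X : Derivation A P (JJ I R')}
    (hX : IsTrans E (JJ I R') (bmap A P R') (ψ.comp (liftD (JJ I R) (JJ_sq I hI R) D))
      (liftD (JJ I R') (JJ_sq I hI R') X)) : twistΦ hI H D = X := by
  apply liftD_injective (JJ I R') (JJ_sq I hI R')
  rw [liftD_twistΦ]
  exact twistLift_eq hI H D hX

theorem twistΦ_apply (H : TwistHyp I E ψ) (D : Derivation A P (JJ I R)) (x : P) :
    ((twistΦ hI H D x : JJ I R') : R') = twistLift hI H D x - algebraMap P R' x := rfl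

include hE in
theorem twistLift_add (H : TwistHyp I E ψ) (D D' : Derivation A P (JJ I R)) (x : P) :
    twistLift hI H (D + D') x = twistLift hI H D x + twistLift hI H D' x - twistLift hI H 0 x := by
  have h0 := twistLift_spec hI H (0 : Derivation A P (JJ I R))
  have h1 := twistLift_spec hI H D
  have h2 := twistLift_spec hI H D'
  have c0 : Cong (JJ I R') (ψ.comp (liftD (JJ I R) (JJ_sq I hI R) 0)) (ψ.comp (bmap A P R)) :=
    cong_comp_liftD hI 0
  have key := IsTrans.aff3 hE (JJ_sq I hI R') H c0 (cong_comp_liftD hI D) (cong_comp_liftD hI D')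
    h0 h1 h2
  have e : ψ.comp (liftD (JJ I R) (JJ_sq I hI R) (D + D')) =
      aff3 (JJ I R') (JJ_sq I hI R') (ψ.comp (liftD (JJ I R) (JJ_sq I hI R) 0))
        (ψ.comp (liftD (JJ I R) (JJ_sq I hI R) D)) (ψ.comp (liftD (JJ I R) (JJ_sq I hI R) D'))
        ((cong_comp_liftD hI D).trans c0.symm) ((cong_comp_liftD hI D').trans c0.symm) := by
    ext x
    simp
    ring
  rw [← e] at key
  have := twistLift_eq hI H (D + D') key
  rw [this]
  rfl

include hE in
theorem twistLift_smul (H : TwistHyp I E ψ) (r : R) (D : Derivation A P (JJ I R)) (x : P) :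
    twistLift hI H (r • D) x =
      twistLift hI H 0 x + ψ r * (twistLift hI H D x - twistLift hI H 0 x) := by
  have h0 := twistLift_spec hI H (0 : Derivation A P (JJ I R))
  have h1 := twistLift_spec hI H D
  have c0 : Cong (JJ I R') (ψ.comp (liftD (JJ I R) (JJ_sq I hI R) 0)) (ψ.comp (bmap A P R)) :=
    cong_comp_liftD hI 0
  have key := IsTrans.affr hE (JJ_sq I hI R') H (ψ r) c0 (cong_comp_liftD hI D) h0 h1
  have e : ψ.comp (liftD (JJ I R) (JJ_sq I hI R) (r • D)) =
      affr (JJ I R') (JJ_sq I hI R') (ψ r) (ψ.comp (liftD (JJ I R) (JJ_sq I hI R) 0))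
        (ψ.comp (liftD (JJ I R) (JJ_sq I hI R) D))
        ((cong_comp_liftD hI D).trans c0.symm) := by
    ext x
    simp
    ring
  rw [← e] at key
  have := twistLift_eq hI H (r • D) key
  rw [this]
  rfl

/-- The linear part of `twistΦ`. -/
noncomputable def twistT (H : TwistHyp I E ψ) (D : Derivation A P (JJ I R)) :
    Derivation A P (JJ I R') := twistΦ hI H D - twistΦ hI H 0

include hE in
theorem twistT_add (H : TwistHyp I E ψ) (D D' : Derivation A P (JJ I R)) :
    twistT hI H (D + D') = twistT hI H D + twistT hI H D' := by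
  ext x
  simp only [twistT, Derivation.sub_apply, Derivation.add_apply, Submodule.coe_sub,
    Submodule.coe_add, twistΦ_apply]
  rw [twistLift_add hI hE H D D' x]
  ring

include hE in
theorem twistT_smul (H : TwistHyp I E ψ) (r : R) (D : Derivation A P (JJ I R)) :
    twistT hI H (r • D) = ψ r • twistT hI H D := by
  ext x
  simp only [twistT, Derivation.sub_apply, Derivation.smul_apply, Submodule.coe_sub,
    Submodule.coe_smul, twistΦ_apply, smul_eq_mul]
  rw [twistLift_smul hI hE H r D x]
  ring

/-- `twistT` as an `A`-linear map. -/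
noncomputable def twistL (H : TwistHyp I E ψ) :
    Derivation A P (JJ I R) →ₗ[A] Derivation A P (JJ I R') where
  toFun := twistT hI H
  map_add' := twistT_add hI hE H
  map_smul' a D := by
    have h : a • D = (algebraMap A R a) • D := by ext x; simp [Algebra.smul_def]
    rw [h, twistT_smul hI hE H, AlgHom.commutes, RingHom.id_apply]
    ext x; simp [Algebra.smul_def]

@[simp]
theorem twistL_apply (H : TwistHyp I E ψ) (D : Derivation A P (JJ I R)) :
    twistL hI hE H D = twistT hI H D := rfl

end Groth.Agent.H1.SmGlue
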