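import Groth.Agent.H1.SmGlue.LocalDatum
import Groth.Agent.H53.LocalST
import Groth.Agent.H49.AlgSpRep

/-!
# Merging finitely many chart data; lifting over an arbitrary affine base
-/

set_option autoImplicit false
universe u
open CategoryTheory CategoryTheory.Limits AlgebraicGeometry Opposite AlgSp TensorProduct

namespace Groth.Agent.H1.SmGlue

open Groth.Agent.H53

section comp

variable {ι : Type u} [Finite ι] (R : ι → Type u) [∀ k, CommRing (R k)]

/-- the `k`-th component `Spec (R k) ⟶ Spec (Π k, R k)` -/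
noncomputable abbrev compMap (k : ι) : Spec (.of (R k)) ⟶ Spec (.of (Π k, R k)) :=
  Spec.map (CommRingCat.ofHom (Pi.evalRingHom R k))

omit [Finite ι] in
theorem compMap_eq (k : ι) : compMap R k =
    Sigma.ι (fun k => Spec (.of (R k))) k ≫ sigmaSpec (fun k => CommRingCat.of (R k)) :=
  (ι_sigmaSpec (fun k => CommRingCat.of (R k)) k).symm

theorem exists_compMap_eq (x : ↥(Spec (.of (Π k, R k)))) : ∃ k y, compMap R k y = x := by
  obtain ⟨y, hy⟩ := (sigmaOpenCover (fun k => Spec (.of (R k)))).covers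
    (inv (sigmaSpec (fun k => CommRingCat.of (R k))) x)
  refine ⟨_, y, ?_⟩
  rw [compMap_eq, Scheme.Hom.comp_apply]
  change sigmaSpec (fun k => CommRingCat.of (R k)) ((sigmaOpenCover _).f _ y) = x
  rw [hy, ← Scheme.Hom.comp_apply, IsIso.inv_hom_id]
  rfl

/-- The open cover of `Spec (Π k, R k)` by the `Spec (R k)`. -/
noncomputable def compCover : (Spec (.of (Π k, R k))).OpenCover :=
  Scheme.Cover.mkOfCovers ι (fun k => Spec (.of (R k))) (compMap R) (exists_compMap_eq R)
    (fun _ => inferInstance)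

/-- the map out of `Spec (Π k, R k)` glued from maps out of the `Spec (R k)` -/
noncomputable def piDesc {Z : Scheme.{u}} (g : ∀ k, Spec (.of (R k)) ⟶ Z) :
    Spec (.of (Π k, R k)) ⟶ Z :=
  inv (sigmaSpec (fun k => CommRingCat.of (R k))) ≫ Sigma.desc g

theorem compMap_piDesc {Z : Scheme.{u}} (g : ∀ k, Spec (.of (R k)) ⟶ Z) (k : ι) :
    compMap R k ≫ piDesc R g = g k := by
  rw [compMap_eq, piDesc, Category.assoc, IsIso.hom_inv_id_assoc, Sigma.ι_desc]

theorem piDesc_hom_ext {Z : Scheme.{u}} {a b : Spec (.of (Π k, R k)) ⟶ Z}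
    (h : ∀ k, compMap R k ≫ a = compMap R k ≫ b) : a = b := by
  rw [← cancel_epi (sigmaSpec (fun k => CommRingCat.of (R k)))]
  refine Sigma.hom_ext _ _ fun k => ?_
  have := h k
  rw [compMap_eq, Category.assoc, Category.assoc] at this
  exact this

theorem etale_piDesc {Z : Scheme.{u}} (g : ∀ k, Spec (.of (R k)) ⟶ Z) (hg : ∀ k, Etale (g k)) :
    Etale (piDesc R g) := by
  have : Etale (Sigma.desc g) := IsZariskiLocalAtSource.sigmaDesc hg
  unfold piDesc
  infer_instance

end comp

section merge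

variable {S : Scheme.{u}} {A : Type u} [CommRing A] {I : Ideal A} {str : Spec (.of A) ⟶ S}
variable {X' : Sp S} {top' : (yon S).obj (smallPt I str) ⟶ X'}
variable {U' : Over S} {α : (yon S).obj U' ⟶ X'} {u' : U' ⟶ bigPt str}
variable {ι : Type u} [Finite ι] (D : ι → Datum I str top' α u')

theorem merge_compat_aux (W : Over S) (g₁ : W ⟶ smallPt I str)
    (g₂ : W.left ⟶ Spec (.of (Π k, (D k).A₁))) (g₃ : W ⟶ U')
    (h1 : g₁.left ≫ Spec.map (CommRingCat.ofHom (Ideal.Quotient.mk I)) =
      g₂ ≫ piDesc (fun k => (D k).A₁) (fun k => (D k).π))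
    (h2 : g₃.left = g₂ ≫ piDesc (fun k => (D k).A₁)
      (fun k => (D k).lam ≫ compMap (fun k => (D k).P) k) ≫
        piDesc (fun k => (D k).P) (fun k => (D k).o)) (k : ι) :
    (yon S).map (overHom W (pullback.fst g₂ (compMap (fun k => (D k).A₁) k))) ≫
      (yon S).map g₃ ≫ α =
    (yon S).map (overHom W (pullback.fst g₂ (compMap (fun k => (D k).A₁) k))) ≫
      (yon S).map g₁ ≫ top' := by
  let p : pullback g₂ (compMap (fun k => (D k).A₁) k) ⟶ W.left := pullback.fst _ _
  let q : pullback g₂ (compMap (fun k => (D k).A₁) k) ⟶ _ := pullback.snd _ _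
  have hpq : p ≫ g₂ = q ≫ compMap (fun k => (D k).A₁) k := pullback.condition
  have := (D k).compat (overOf W p) (overHom W p ≫ g₁) q (overHom W p ≫ g₃) ?_ ?_
  · rw [Functor.map_comp, Functor.map_comp, Category.assoc, Category.assoc] at this
    exact this
  · change (p ≫ g₁.left) ≫ _ = _
    rw [Category.assoc, h1, ← Category.assoc, hpq, Category.assoc, compMap_piDesc]
  · change p ≫ g₃.left = _
    rw [h2, ← Category.assoc, hpq, Category.assoc, ← Category.assoc (compMap _ k),
      compMap_piDesc, Category.assoc, compMap_piDesc]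

/-- A finite family of chart data merges into one (over the disjoint union). -/
noncomputable def Datum.merge : Datum I str top' α u' where
  P := Π k, (D k).P
  A₁ := Π k, (D k).A₁
  o := piDesc (fun k => (D k).P) (fun k => (D k).o)
  π := piDesc (fun k => (D k).A₁) (fun k => (D k).π)
  lam := piDesc (fun k => (D k).A₁) (fun k => (D k).lam ≫ compMap (fun k => (D k).P) k)
  ho := etale_piDesc _ _ fun k => (D k).ho
  hπ := etale_piDesc _ _ fun k => (D k).hπ
  w := by
    refine piDesc_hom_ext _ fun k => ?_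
    rw [compMap_piDesc, ← Category.assoc, compMap_piDesc, Category.assoc, ← Category.assoc _ _ u'.left,
      compMap_piDesc, (D k).w]
  compat := by
    intro W g₁ g₂ g₃ h1 h2
    exact yon_hom_ext_of_cover _ _ (openCoverToFppf
      ((compCover (fun k => (D k).A₁)).pullback₁ g₂)) fun k => merge_compat_aux D W g₁ g₂ g₃ h1 h2 k

theorem Datum.merge_π : (Datum.merge D).π = piDesc (fun k => (D k).A₁) (fun k => (D k).π) := rfl

theorem Datum.merge_surjective (h : ∀ z : ↥(Spec (.of A)), ∃ k, z ∈ Set.range (D k).π) :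
    Surjective (Datum.merge D).π := by
  refine ⟨fun z => ?_⟩
  obtain ⟨k, y, hy⟩ := h z
  refine ⟨compMap (fun k => (D k).A₁) k y, ?_⟩
  have : compMap (fun k => (D k).A₁) k ≫ (Datum.merge D).π = (D k).π := by
    rw [Datum.merge_π, compMap_piDesc]
  rw [← hy, ← this, Scheme.Hom.comp_apply]
  rfl

end merge

section general

variable {S : Scheme.{u}} {A : Type u} [CommRing A] {I : Ideal A} {str : Spec (.of A) ⟶ S}
variable {X' : Sp S} {top' : (yon S).obj (smallPt I str) ⟶ X'}
variable (hI : I ^ 2 = ⊥) (hX' : IsAlgSpace X') (f' : X' ⟶ (yon S).obj (bigPt str))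
  (hf' : LocP @Smooth f') (htop : top' ≫ f' = (yon S).map (thickJ I str))

include hI hX' hf' htop in
/-- **Lifting over an affine base**: a smooth morphism from an algebraic space to `Spec A` has
the infinitesimal lifting property for `Spec (A ⧸ I) ⟶ Spec A`, `I ^ 2 = 0`. -/
theorem exists_lift_of_affine :
    ∃ l : (yon S).obj (bigPt str) ⟶ X',
      (yon S).map (thickJ I str) ≫ l = top' ∧ l ≫ f' = 𝟙 _ := by
  obtain ⟨U', α, hα, hα'⟩ := hX'.atlas
  obtain ⟨u', hu'⟩ := (yon S).map_surjective (α ≫ f')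
  choose D hD using fun t₀ => exists_datum hI hX' f' hf' htop hα hα' hu'.symm t₀
  have hopen : ∀ t, IsOpen (Set.range (D t).π) := fun t => by
    have := (D t).hπ
    exact (D t).π.isOpenMap.isOpen_range
  obtain ⟨s, hs⟩ := isCompact_univ.elim_finite_subcover (fun t => Set.range (D t).π) hopen
    (fun z _ => Set.mem_iUnion.2 ⟨z, hD z⟩)
  refine (Datum.merge (ι := ↥s) (fun k => D k.1)).exists_lift hI f' hf' hα hu'.symm
    (Datum.merge_surjective _ fun z => ?_)
  obtain ⟨t, ht, hz⟩ : ∃ t ∈ s, z ∈ Set.range (D t).π := by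
    simpa using hs (Set.mem_univ z)
  exact ⟨⟨t, ht⟩, hz⟩

end general

/-- **Smooth morphisms of algebraic spaces are formally smooth.** -/
theorem isFormallySmoothMor_of_smooth {S : Scheme.{u}} {X Y : Sp S} (hX : IsAlgSpace X)
    (hY : IsAlgSpace Y) (f : X ⟶ Y) (hf : LocP @Smooth f) : IsFormallySmoothMor f := by
  rw [formallySmooth_iff]
  intro A _ I hI str top bot comm
  have PB := IsPullback.of_hasPullback f bot
  have hX' : IsAlgSpace (pullback f bot) :=
    Groth.Agent.H49.isAlgSpace_of_isPullback PB hY.diag hX (IsAlgSpace.yon_obj _)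
  have hf' : LocP @Smooth (pullback.snd f bot) :=
    locP_smooth_of_isPullback hX hY (IsAlgSpace.yon_obj _) PB hf
  obtain ⟨l, hl1, hl2⟩ := exists_lift_of_affine (I := I) (str := str)
    (top' := pullback.lift _ _ comm) hI hX' (pullback.snd f bot) hf' (pullback.lift_snd _ _ comm)
  refine ⟨l ≫ pullback.fst f bot, ?_, ?_⟩
  · rw [← Category.assoc, hl1, pullback.lift_fst]
  · rw [Category.assoc, pullback.condition, ← Category.assoc, hl2, Category.id_comp]

end Groth.Agent.H1.SmGlue
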